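import Cfsg.Agent.Lib.PrimeDefect.SmallNormal

/-!
# Groups with a faithful character of degree `p - 2`: the local structure
-/

set_option autoImplicit false
set_option linter.unusedSectionVars false
set_option linter.style.haveILetI false

noncomputable section

namespace CfsgLib.PSubTwo

open Cfsg CfsgLib.Characters CfsgLib.PrimeDefect CfsgLib.SelfCentralPrime
open scoped ComplexConjugate

universe u

variable {G : Type u} [Group G] {p : ℕ} [hp : Fact p.Prime] {x a : G}

/-- The local data: `C(x) = ⟨x⟩ × Z(G)` and `N(⟨x⟩)` induces inversion. -/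
structure Loc (p : ℕ) [Fact p.Prime] (x a : G) : Prop where
  five_lt : 5 < p
  data : Data p x (Subgroup.centralizer ({x} : Set G)) (Subgroup.center G)
  inv : a * x * a⁻¹ = x⁻¹
  nrm_two : ∀ g ∈ nrm x, g * x * g⁻¹ = x ∨ g * x * g⁻¹ = x⁻¹
  not_central : ¬ Commute a x

/-- An element with a scalar matrix is central in the presence of a faithful character. -/
theorem mem_center_of_norm [Finite G] (χ : IrrCharacter G)
    (hfaith : ∀ g : G, (χ : G → ℂ) g = (χ : G → ℂ) 1 → g = 1) {g : G}
    (hg : ‖(χ : G → ℂ) g‖ = (charDegree (χ : G → ℂ) : ℝ)) : g ∈ Subgroup.center G := by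
  obtain ⟨n, ρ, -, hρ⟩ := χ.2
  have hinj : ∀ h : G, ρ h = LinearMap.id → h = 1 := fun h hh => hfaith h (by
    rw [← hρ, (char_eq_degree_iff ρ h).2 hh, Representation.char_one])
  have hn : (charDegree (χ : G → ℂ) : ℝ) = (Module.finrank ℂ (Fin n → ℂ) : ℝ) := by
    have h1 := Chars17.cast_irrDegree χ
    rw [← hρ, Representation.char_one] at h1
    rw [← hρ]
    exact_mod_cast h1
  rw [← hρ] at hg hn
  obtain ⟨ω, hω⟩ := (norm_char_eq_iff_scalar ρ g).1 (hg.trans hn)
  rw [Subgroup.mem_center_iff]
  intro h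
  have hc : Commute (ρ h) (ρ g) := by
    rw [hω]
    exact (Commute.one_right (ρ h)).smul_right ω
  refine mul_inv_eq_one.1 (hinj _ ?_)
  rw [map_mul, map_mul, hc.eq, ← map_mul, ← map_mul, mul_inv_cancel, map_one]
  rfl

variable [Fintype G]

/-- The local structure from a faithful character of degree `p - 2`. -/
theorem exists_loc (hx : orderOf x = p) (hsq : ¬ p ^ 2 ∣ Nat.card G) (hp5 : 5 < p)
    (hnn : ∀ H : Subgroup G, H.Normal → Nat.card H ≠ p) (χ : IrrCharacter G)
    (hfaith : ∀ g : G, (χ : G → ℂ) g = (χ : G → ℂ) 1 → g = 1)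
    (hdeg : charDegree (χ : G → ℂ) + 2 = p) : ∃ a : G, Loc p x a := by
  classical
  obtain ⟨M, hM⟩ := CfsgLib.KGV.exists_isPModular p hp.out
  obtain ⟨V, D⟩ := exists_data hx hsq
  haveI := Fintype.ofFinite (Subgroup.centralizer ({x} : Set G))
  haveI := Fintype.ofFinite V
  have hx1 : x ≠ 1 := fun h => hp.out.ne_one (by rw [← hx, h, orderOf_one])
  have hxc : x ∉ Subgroup.center G := fun h => hnn (Subgroup.zpowers x)
    ⟨fun b hb g => by
      rwa [Subgroup.mem_center_iff.1 (Subgroup.zpowers_le.2 h hb) g, mul_inv_cancel_right]⟩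
    (by rw [Nat.card_zpowers, hx])
  set d := charDegree (χ : G → ℂ)
  have hdpos : 0 < d := Chars17.irrDegree_pos χ
  set B := blockOf M (χ : G → ℂ)
  have hB : IsPBlock M B := Blocks.isPBlock_blockOf χ
  have hχB : χ ∈ B := Blocks.mem_blockOf_self hM χ
  have hbd : 0 < blockDefect p B := by
    rw [blockDefect, D.factorization_card_eq, Nat.sub_pos_iff_lt]
    refine lt_of_le_of_lt (Nat.sInf_le ⟨χ, hχB, rfl⟩) ?_
    dsimp only
    rw [Nat.factorization_eq_zero_of_not_dvd (fun h => by have := Nat.le_of_dvd hdpos h; omega)]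
    exact one_pos
  obtain ⟨β, hβ⟩ := D.exists_hits_of_defect hM hB hbd
  obtain ⟨F⟩ := D.exists_family hM hB hbd hβ
  set b := charDegree (β : V → ℂ)
  have hb : 0 < b := Chars17.irrDegree_pos β
  set S := ∑ i : ZMod p, D.mult χ i β
  set Hs := Finset.univ.filter fun γ : IrrCharacter V => D.Hits M B γ
  have hβH : β ∈ Hs := Finset.mem_filter.2 ⟨Finset.mem_univ _, hβ⟩
  have hdegeq : d = ∑ γ : IrrCharacter V, (∑ i : ZMod p, D.mult χ i γ) * charDegree (γ : V → ℂ) := by
    have h := D.degree_eq χ
    rw [← Chars17.cast_irrDegree] at h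
    simp only [← Chars17.cast_irrDegree, ← Finset.sum_mul] at h
    exact_mod_cast h
  have hother : ∀ γ, γ ∉ Hs → ∀ i, D.mult χ i γ = 0 := by
    intro γ hγ i
    have hconst : ∀ j, D.mult χ j γ = D.mult χ i γ := by
      intro j
      have h : (p : ℂ) * ((D.mult χ j γ : ℂ) - D.mult χ i γ) = 0 := by
        rw [D.mult_sub]
        exact Finset.sum_eq_zero fun l hl => by
          rw [D.coef_eq_zero hM hB hχB (Finset.mem_erase.1 hl).1
            (fun h => hγ (Finset.mem_filter.2 ⟨Finset.mem_univ _, h⟩)), zero_mul]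
      exact_mod_cast sub_eq_zero.1 ((mul_eq_zero.1 h).resolve_left
        (Nat.cast_ne_zero.2 hp.out.ne_zero))
    have hle : (∑ j : ZMod p, D.mult χ j γ) * charDegree (γ : V → ℂ) ≤ d := by
      rw [hdegeq]
      exact Finset.single_le_sum
        (f := fun γ : IrrCharacter V => (∑ j : ZMod p, D.mult χ j γ) * charDegree (γ : V → ℂ))
        (fun _ _ => Nat.zero_le _) (Finset.mem_univ γ)
    simp only [hconst, Finset.sum_const, Finset.card_univ, ZMod.card, smul_eq_mul] at hle
    by_contra h0
    have h1 := Nat.le_mul_of_pos_right p (Nat.pos_of_ne_zero h0)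
    have h2 := Nat.le_mul_of_pos_right (p * D.mult χ i γ) (Chars17.irrDegree_pos γ)
    omega
  have hhit : ∀ γ ∈ Hs, (∑ i : ZMod p, D.mult χ i γ) * charDegree (γ : V → ℂ) = S * b := by
    intro γ hγ
    obtain ⟨n, rfl⟩ := D.exists_cj_of_hits hM hβ (Finset.mem_filter.1 hγ).2
    congr 1
    · simp only [D.mult_cj]
      exact Fintype.sum_equiv (Units.mulLeft (D.mu n)⁻¹) _ _ fun _ => rfl
    · simp only [b, charDegree, D.cj_one_apply]
  have hd : d = Hs.card * (S * b) := by
    rw [hdegeq, ← Finset.sum_subset (Finset.subset_univ Hs) fun γ _ hγ => by simp [hother γ hγ],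
      Finset.sum_congr rfl hhit, Finset.sum_const, smul_eq_mul]
  set E := Nat.card D.muHom.range
  set e := Nat.card (D.expH β)
  have hhe : Hs.card * e = E := D.card_hits_mul_expH hM hβ
  have hEp : E ∣ p - 1 := D.card_units ▸ Subgroup.card_subgroup_dvd_card _
  have hE1 : E ≠ 1 := by
    intro h1
    have hcomm : ∀ g ∈ nrm x, Commute g x := by
      intro g hg
      rw [← D.mem_C_iff]
      refine (D.mu_eq_one_iff ⟨g, hg⟩).1 ?_
      exact Subgroup.mem_bot.1 ((Subgroup.card_eq_one.1 h1).le ⟨⟨g, hg⟩, rfl⟩)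
    exact hxc (mem_center_of_norm χ hfaith (norm_value_eq hx hsq hcomm χ (by omega)))
  have hp1 : 1 ≤ p := hp.out.one_le
  have hE0 : 0 < E := Nat.card_pos
  have he0 : 0 < e := Nat.card_pos
  have hHs0 : 0 < Hs.card := Finset.card_pos.2 ⟨β, hβH⟩
  -- `x` is not in the kernel
  have hnk : ∃ (i : ZMod p) (γ : IrrCharacter V), i ≠ 0 ∧ D.mult χ i γ ≠ 0 := by
    by_contra hall
    push Not at hall
    have h0 : ∀ i γ, i ≠ 0 → D.mult χ i γ = 0 := fun i γ hi => hall i γ hi
    refine hx1 (hfaith x ?_)
    have h1 := D.value_eq χ 1 1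
    have h2 := D.value_eq χ 0 1
    rw [OneMemClass.coe_one, mul_one, pw_one] at h1
    rw [OneMemClass.coe_one, mul_one, D.pw_zero] at h2
    rw [h1, h2]
    refine Finset.sum_congr rfl fun γ _ => ?_
    congr 1
    refine Finset.sum_congr rfl fun i _ => ?_
    by_cases hi : i = 0
    · rw [hi, mul_zero, mul_zero]
    · rw [h0 i γ hi]; simp
  obtain ⟨i0, γ0, hi0, hne0⟩ := hnk
  have hγ0 : γ0 ∈ Hs := by_contra fun h => hne0 (hother γ0 h i0)
  obtain ⟨u0, hu0⟩ : ∃ u : (ZMod p)ˣ, D.mult χ (u : ZMod p) β ≠ 0 := by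
    obtain ⟨n, rfl⟩ := D.exists_cj_of_hits hM hβ (Finset.mem_filter.1 hγ0).2
    rw [D.mult_cj] at hne0
    exact ⟨(D.mu n)⁻¹ * Units.mk0 i0 hi0, by rw [Units.val_mul, Units.val_mk0]; exact hne0⟩
  -- the only possibility
  have hkey : b = 1 ∧ Hs.card = 1 ∧ e = 2 := by
    have hSb : S * (Hs.card * b) = d := by rw [hd]; ring
    have hhb : 0 < Hs.card * b := Nat.mul_pos hHs0 hb
    rcases (F.mem_iff χ).1 hχB with hX | ⟨q, hq⟩
    · exfalso
      have h1 := F.sum_mult_X hX
      have h2 := F.mult_X χ hX u0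
      have h3 : 1 ≤ (D.mult χ (u0 : ZMod p) β : ℤ) := by
        exact_mod_cast Nat.one_le_iff_ne_zero.2 hu0
      have h4 : (p : ℤ) - 1 ≤ S := by
        push_cast [S]
        rw [h1]
        rcases F.sign_spec χ hX with hs | hs <;> rw [hs] at h2 ⊢ <;> nlinarith
      have h5 : S ≤ d := hSb ▸ Nat.le_mul_of_pos_right S hhb
      omega
    · have h1 : (S : ℤ) = p * (D.mult χ 0 β : ℤ) + F.ε * e := by
        have := F.sum_mult_θ q
        rw [hq] at this
        push_cast [S]
        exact this
      set m0 := D.mult χ 0 β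
      have h5 : S ≤ d := hSb ▸ Nat.le_mul_of_pos_right S hhb
      rcases F.ε_spec with hε | hε <;> rw [hε] at h1
      · exfalso
        have hm0 : m0 = 0 := by
          by_contra hm0
          have : (1 : ℤ) ≤ m0 := by exact_mod_cast Nat.one_le_iff_ne_zero.2 hm0
          have : (p : ℤ) ≤ S := by rw [h1]; nlinarith
          omega
        rw [hm0] at h1
        have hSe : S = e := by push_cast at h1; omega
        have hdE : d = E * b := by rw [← hhe, hd, hSe]; ring
        have hEd : E ∣ d + 1 := by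
          have : d + 1 = p - 1 := by omega
          rw [this]; exact hEp
        exact hE1 (Nat.dvd_one.1 ((Nat.dvd_add_right (hdE ▸ dvd_mul_right E b)).1 hEd))
      · have hm0 : 1 ≤ m0 := by
          have h2 := F.mult_θ_eq q q.out q.out_eq
          rw [hq, hε] at h2
          have : (0 : ℤ) ≤ D.mult χ ((q.out : (ZMod p)ˣ) : ZMod p) β := Int.natCast_nonneg _
          omega
        have hep : e ≤ p - 1 := (Nat.le_of_dvd (by omega) (hhe ▸ dvd_mul_left e Hs.card)).trans
          (Nat.le_of_dvd (by omega) hEp)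
        rcases Nat.lt_or_ge m0 2 with hm2 | hm2
        · have hm1 : m0 = 1 := by omega
          rw [hm1] at h1
          have hSe : S + e = p := by push_cast at h1; omega
          have hone : Hs.card * b = 1 := by
            by_contra hne
            have h6 : S * 2 ≤ d := hSb ▸ Nat.mul_le_mul_left S (by omega : 2 ≤ Hs.card * b)
            have hee : e = p - 1 := by
              obtain ⟨c, hc⟩ := (hhe ▸ dvd_mul_left e Hs.card).trans hEp
              rcases c with _ | _ | c
              · omega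
              · omega
              · have : 2 * e ≤ p - 1 := by rw [hc]; nlinarith
                omega
            have hsing : Nat.card (D.Orbits β) = 1 := by
              have := D.card_expH_mul β
              rw [show Nat.card (D.expH β) = p - 1 from hee] at this
              exact Nat.eq_of_mul_eq_mul_left (by omega : 0 < p - 1) (this.trans (mul_one _).symm)
            haveI := (Nat.card_eq_one_iff_unique.1 hsing).1
            have h7 := F.mult_θ_eq q u0 (Subsingleton.elim _ _)
            rw [hq, hε, show D.mult χ 0 β = 1 from hm1] at h7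
            exact hu0 (by push_cast at h7; omega)
          refine ⟨(mul_eq_one.1 hone).2, (mul_eq_one.1 hone).1, ?_⟩
          rw [hone, mul_one] at hSb
          omega
        · exfalso
          have : (p : ℤ) + 1 ≤ S := by
            rw [h1]
            have : (2 : ℤ) ≤ m0 := by exact_mod_cast hm2
            have : (e : ℤ) ≤ p - 1 := by omega
            nlinarith
          omega
  obtain ⟨hb1, hh1, he2⟩ := hkey
  have hE2 : E = 2 := by rw [← hhe, hh1, he2]
  have honly : ∀ γ, γ ≠ β → ∀ i, D.mult χ i γ = 0 := fun γ hγ => hother γ fun h => hγ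
    (Finset.card_le_one.1 hh1.le γ h β hβH)
  -- `V` is the centre
  have hVc : V = Subgroup.center G := by
    refine le_antisymm (fun v hv => mem_center_of_norm χ hfaith ?_) fun z hz => ?_
    · have h := D.value_eq χ 0 ⟨v, hv⟩
      rw [D.pw_zero, one_mul] at h
      dsimp only at h
      rw [h, Finset.sum_eq_single β (fun γ _ hγ => by simp [honly γ hγ])
        (fun h => absurd (Finset.mem_univ _) h)]
      simp only [zero_mul, AddChar.map_zero_eq_one, mul_one]
      rw [← Nat.cast_sum, norm_mul, Complex.norm_natCast]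
      obtain ⟨f, hf⟩ := LinearTwist.exists_hom_of_charDegree_one (irr_isCharacter β) hb1
      rw [hf, Complex.norm_eq_one_of_pow_eq_one (n := Nat.card V)
        (by rw [← Units.val_pow_eq_pow_val, ← map_pow, pow_card_eq_one', map_one, Units.val_one])
        Nat.card_pos.ne', mul_one]
      have hdS : d = S := by rw [hd, hh1, hb1, one_mul, mul_one]
      exact_mod_cast hdS.symm
    · rw [D.hV]
      refine ⟨Subgroup.center_le_centralizer _ hz, fun hd' => ?_⟩
      set w := z ^ (orderOf z / p)
      have hwo : orderOf w = p := orderOf_pow_orderOf_div (orderOf_pos z).ne' hd'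
      refine hnn (Subgroup.zpowers w) ⟨fun c hc g => ?_⟩ (by rw [Nat.card_zpowers, hwo])
      rwa [Subgroup.mem_center_iff.1 (Subgroup.zpowers_le.2 (pow_mem hz _) hc) g,
        mul_inv_cancel_right]
  subst hVc
  -- the inverting element
  have hrange : ∀ v ∈ D.muHom.range, v = 1 ∨ v = -1 := by
    intro v hv
    have h2 : v ^ 2 = 1 := by
      have := pow_card_eq_one' (G := D.muHom.range) (x := ⟨v, hv⟩)
      rw [show Nat.card D.muHom.range = 2 from hE2] at this
      exact congrArg Subtype.val this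
    rcases sq_eq_one_iff.1 (show (v : ZMod p) ^ 2 = 1 by rw [← Units.val_pow_eq_pow_val, h2]; rfl)
      with h | h
    · exact Or.inl (Units.ext h)
    · exact Or.inr (Units.ext h)
  have hneg : ∀ v : (ZMod p)ˣ, v = -1 → pw x (v : ZMod p) = x⁻¹ := by
    rintro v rfl
    rw [Units.val_neg, Units.val_one, D.pw_neg, pw_one]
  obtain ⟨v, hv, hv1⟩ : ∃ v ∈ D.muHom.range, v ≠ 1 := by
    by_contra hall
    push Not at hall
    exact hE1 (Subgroup.card_eq_one.2 (Subgroup.eq_bot_iff_forall _ |>.2 hall))
  obtain ⟨n, rfl⟩ := hv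
  refine ⟨(n : G), ⟨hp5, D, ?_, fun g hg => ?_, fun h => hv1 ?_⟩⟩
  · rw [D.mu_spec]
    exact hneg _ ((hrange _ ⟨n, rfl⟩).resolve_left hv1)
  · rcases hrange (D.mu ⟨g, hg⟩) ⟨_, rfl⟩ with h | h
    · left
      rw [show g * x * g⁻¹ = _ from D.mu_spec ⟨g, hg⟩, h, Units.val_one, pw_one]
    · right
      rw [show g * x * g⁻¹ = _ from D.mu_spec ⟨g, hg⟩, hneg _ h]
  · exact (D.mu_eq_one_iff n).2 (D.mem_C_iff.2 h)

end CfsgLib.PSubTwo
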