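import Cfsg.Agent.Lib.PSubTwo.Pairs
import Cfsg.Agent.Lib.HalfPSL.Basic
import Cfsg.Agent.S4503

/-!
# Groups with a faithful character of degree `p - 2`: a linear character above the same central one
-/

set_option autoImplicit false
set_option linter.unusedSectionVars false
set_option linter.style.haveILetI false

noncomputable section

namespace CfsgLib.PSubTwo

open Cfsg CfsgLib.Characters CfsgLib.PrimeDefect CfsgLib.SelfCentralPrime
open scoped ComplexConjugate

universe u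

variable {G : Type u} [Group G] [Fintype G] {p : ℕ} [hp : Fact p.Prime] {x a : G}

theorem norm_linear {H : Type*} [Group H] [Finite H] {μ : IrrCharacter H}
    (h : (μ : H → ℂ) 1 = 1) (z : H) : ‖(μ : H → ℂ) z‖ = 1 := by
  obtain ⟨f, hf⟩ := LinearTwist.exists_hom_of_charDegree_one (irr_isCharacter μ)
    (LinearTwist.charDegree_eq_of_apply_one (n := 1) (by rw [h, Nat.cast_one]))
  rw [hf]
  exact Complex.norm_eq_one_of_pow_eq_one (n := Nat.card H)
    (by rw [← Units.val_pow_eq_pow_val, ← map_pow, pow_card_eq_one', map_one, Units.val_one])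
    Nat.card_pos.ne'

namespace Loc

variable (L : Loc p x a)

include L

theorem mem_C_center_of_regular {g : G} (hg : Commute g x) (h : ¬ p ∣ orderOf g) :
    g ∈ Subgroup.center G := (L.data.hV g).2 ⟨Subgroup.mem_centralizer_singleton_iff.2 hg, h⟩

theorem orderOf_mk : orderOf (x : G ⧸ Subgroup.center G) = p := by
  refine orderOf_eq_prime (by rw [← QuotientGroup.mk_pow, ← L.data.hx, pow_orderOf_eq_one,
    QuotientGroup.mk_one]) fun h => ?_
  exact L.data.regular ((QuotientGroup.eq_one_iff x).1 h) (dvd_of_eq L.data.hx.symm)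

theorem sq_quot : ¬ p ^ 2 ∣ Nat.card (G ⧸ Subgroup.center G) := fun h =>
  L.data.hsq (h.trans ⟨Nat.card (Subgroup.center G), by
    rw [← (Subgroup.center G).card_eq_card_quotient_mul_card_subgroup]⟩)

theorem no_normal_quot (hnn : ∀ H : Subgroup G, H.Normal → Nat.card H ≠ p)
    (H : Subgroup (G ⧸ Subgroup.center G)) (hH : H.Normal) : Nat.card H ≠ p := by
  intro hc
  have hxp : (x : G ⧸ Subgroup.center G) ^ p = 1 := by
    rw [← L.orderOf_mk, pow_orderOf_eq_one]
  have hxH : (x : G ⧸ Subgroup.center G) ∈ H :=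
    HalfPSL.mem_of_dvd_normal L.sq_quot H (hc ▸ dvd_rfl) hxp
  have hH' : H = Subgroup.zpowers (x : G ⧸ Subgroup.center G) :=
    (Subgroup.eq_of_le_of_card_ge (Subgroup.zpowers_le.2 hxH)
      (by rw [hc, Nat.card_zpowers, L.orderOf_mk])).symm
  obtain ⟨K, hK, hKc⟩ := HalfPSL.exists_normal_of_commute L.data.hx L.data.hsq fun g => by
    have h1 : ((g * x * g⁻¹ : G) : G ⧸ Subgroup.center G) ∈ H := by
      simp only [QuotientGroup.mk_mul, QuotientGroup.mk_inv]
      exact hH.conj_mem _ hxH _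
    rw [hH'] at h1
    obtain ⟨k, hk⟩ := Subgroup.mem_zpowers_iff.1 h1
    rw [← QuotientGroup.mk_zpow, QuotientGroup.eq] at hk
    have e : g * x * g⁻¹ = x ^ k * ((x ^ k)⁻¹ * (g * x * g⁻¹)) := by group
    rw [e]
    exact ((Commute.refl x).zpow_left k).mul_left (Subgroup.mem_center_iff.1 hk x).symm
  exact hnn K hK hKc

theorem regular_of_mem {g : G} (hg : g ∈ Subgroup.center G) : ¬ p ∣ orderOf g := L.data.regular hg

variable {ζ : IrrCharacter G} (hfaith : ∀ g : G, (ζ : G → ℂ) g = (ζ : G → ℂ) 1 → g = 1)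
  (hdeg : charDegree (ζ : G → ℂ) + 2 = p)

include hfaith hdeg

/-- An irreducible character trivial on the centre and not on `x` is faithful modulo the centre. -/
theorem exists_quot {χ : IrrCharacter G}
    (hz : ∀ z ∈ Subgroup.center G, (χ : G → ℂ) z = (χ : G → ℂ) 1)
    (hx' : (χ : G → ℂ) x ≠ (χ : G → ℂ) 1) :
    ∃ η : IrrCharacter (G ⧸ Subgroup.center G), (∀ g : G, (η : (G ⧸ Subgroup.center G) → ℂ) g = (χ : G → ℂ) g) ∧
      charDegree (η : (G ⧸ Subgroup.center G) → ℂ) = charDegree (χ : G → ℂ) ∧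
      ∀ q, (η : (G ⧸ Subgroup.center G) → ℂ) q = (η : (G ⧸ Subgroup.center G) → ℂ) 1 → q = 1 := by
  obtain ⟨η, hη⟩ := Chars17.exists_infl_eq (N := Subgroup.center G) (χ := χ)
    fun z hz' => Chars17.mem_irrKer.2 (hz z hz')
  have hval : ∀ g : G, (η : (G ⧸ Subgroup.center G) → ℂ) g = (χ : G → ℂ) g := fun g => by rw [← hη]; rfl
  refine ⟨η, hval, ?_, fun q => ?_⟩
  · rw [charDegree, charDegree, ← hval 1, QuotientGroup.mk_one]
  · induction q using QuotientGroup.induction_on with | H g => ?_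
    intro hq
    rw [hval, show ((1 : G ⧸ Subgroup.center G)) = ((1 : G) : G ⧸ Subgroup.center G) from rfl,
      hval] at hq
    rw [QuotientGroup.eq_one_iff]
    have hxp : x ^ p = 1 := by rw [← L.data.hx, pow_orderOf_eq_one]
    have hK := HalfPSL.not_dvd_of_notMem L.data.hsq (Chars17.irrKer χ) hxp
      fun h => hx' (Chars17.mem_irrKer.1 h)
    have hgK : g ∈ Chars17.irrKer χ := Chars17.mem_irrKer.2 hq
    refine L.mem_C_center_of_regular ?_ fun h => hK (h.trans (Subgroup.orderOf_dvd_natCard _ hgK))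
    exact PrimeDefect.commute_of_small L.data.hx L.data.hsq (ζ : G → ℂ) (irr_isCharacter ζ) hfaith
      (by omega) (Chars17.irrKer χ) hK hgK

/-- No small character trivial on the centre. -/
theorem degree_two_false (hnn : ∀ H : Subgroup G, H.Normal → Nat.card H ≠ p) {χ : IrrCharacter G}
    (hz : ∀ z ∈ Subgroup.center G, (χ : G → ℂ) z = (χ : G → ℂ) 1)
    (hx' : (χ : G → ℂ) x ≠ (χ : G → ℂ) 1) (hd : charDegree (χ : G → ℂ) = 2) : False := by
  obtain ⟨η, -, hηd, hηf⟩ := L.exists_quot hfaith hdeg hz hx'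
  have h := Cfsg.Agent.S4503.result p hp.out (by rw [← L.orderOf_mk]; exact orderOf_dvd_natCard _)
    L.sq_quot (L.no_normal_quot hnn) (η : (G ⧸ Subgroup.center G) → ℂ) (irr_isCharacter η) hηf
  have := L.five_lt
  omega

end Loc

namespace Fam

variable {L : Loc p x a} {μ : IrrCharacter (Subgroup.center G)}

/-- Interchange the two ordinary characters. -/
def swap (F : Fam L μ) : Fam L μ :=
  { A := F.B, B := F.A, θ := F.θ, sA := F.sB, sB := F.sA, ε := F.ε, m := F.m
    sA_spec := F.sB_spec, sB_spec := F.sA_spec, ε_spec := F.ε_spec, A_ne_B := F.A_ne_B.symm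
    θ_eq := F.θ_eq, θ_ne_A := F.θ_ne_B, θ_ne_B := F.θ_ne_A, over_A := F.over_B, over_B := F.over_A
    over_θ := F.over_θ, xm_A := F.xm_B, xm_B := F.xm_A, xm_θ_zero := F.xm_θ_zero, xm_θ := F.xm_θ
    cover := fun χ h => by
      rcases F.cover χ h with h' | h' | h' | h'
      exacts [Or.inr (Or.inl h'), Or.inl h', Or.inr (Or.inr (Or.inl h')), Or.inr (Or.inr (Or.inr h'))]
    relation := fun y hy u => by rw [add_comm]; exact F.relation y hy u }

variable (F : Fam L μ)

include F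

theorem degree_relation (u : (ZMod p)ˣ) :
    F.sA * (charDegree (F.A : G → ℂ) : ℤ) + F.sB * (charDegree (F.B : G → ℂ) : ℤ) =
      F.ε * (charDegree (F.θ u : G → ℂ) : ℤ) := by
  have h := F.relation 1 (by rw [orderOf_one]; exact hp.out.not_dvd_one) u
  simp only [← Chars17.cast_irrDegree] at h
  exact_mod_cast h

/-- The character of degree `p - 2` is exceptional, with sign `-1`. -/
theorem exists_eq_θ {ζ : IrrCharacter G} (hζ : Loc.Over ζ μ)
    (hdeg : charDegree (ζ : G → ℂ) + 2 = p) : (∃ u, F.θ u = ζ) ∧ F.ε = -1 ∧ F.m = 1 := by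
  have hp5 := L.five_lt
  have key : ∀ (χ : IrrCharacter G) (s : ℤ), (s = 1 ∨ s = -1) →
      (charDegree (χ : G → ℂ) : ℤ) = p * ((L.xm χ 0 : ℤ) - s) + s → χ ≠ ζ := by
    rintro χ s hs h rfl
    have h' : (charDegree (χ : G → ℂ) : ℤ) = (p : ℤ) - 2 := by omega
    rw [h'] at h
    rcases hs with rfl | rfl
    · have h3 : (p : ℤ) ∣ 3 := ⟨-((L.xm χ 0 : ℤ) - 2), by linear_combination -h⟩
      have := Int.le_of_dvd (by norm_num) h3
      omega
    · have h3 : (p : ℤ) ∣ 1 := ⟨-(L.xm χ 0 : ℤ), by linear_combination -h⟩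
      have := Int.le_of_dvd (by norm_num) h3
      omega
  rcases F.cover ζ hζ with h | h | ⟨u, hu⟩ | h
  · exact absurd h.symm (key F.A F.sA F.sA_spec F.deg_A)
  · exact absurd h.symm (key F.B F.sB F.sB_spec F.deg_B)
  · refine ⟨⟨u, hu⟩, ?_⟩
    have h1 := F.deg_θ u
    rw [hu] at h1
    have h2 : (charDegree (ζ : G → ℂ) : ℤ) = (p : ℤ) - 2 := by omega
    rw [h2] at h1
    rcases F.ε_spec with h3 | h3 <;> rw [h3] at h1
    · have h4 : (p : ℤ) ∣ 4 := ⟨1 - (F.m : ℤ), by linear_combination -h1⟩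
      have := Int.le_of_dvd (by norm_num) h4
      omega
    · refine ⟨h3, ?_⟩
      have : (F.m : ℤ) = 1 := by
        have h4 : ((F.m : ℤ) - 1) * p = 0 := by linear_combination -h1
        rcases mul_eq_zero.1 h4 with h5 | h5 <;> omega
      exact_mod_cast this
  · exfalso
    have h1 := L.sum_xm ζ
    simp only [h, Finset.sum_const, Finset.card_univ, ZMod.card, smul_eq_mul] at h1
    rcases Nat.eq_zero_or_pos (L.xm ζ 0) with h2 | h2
    · rw [h2] at h1; omega
    · have := Nat.le_mul_of_pos_right p h2; omega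

end Fam

theorem quad_bound {p j : ℝ} (hp : 7 ≤ p) (hj : 1 ≤ j) :
    p ^ 2 * (2 * j + 1) ^ 2 < (p * j + 1) * (p - 2) * ((p * j + 1) + (p - 2)) := by
  nlinarith [mul_nonneg (mul_nonneg (sub_nonneg.2 hp) (sq_nonneg p)) (sq_nonneg j),
    mul_nonneg (mul_nonneg (sub_nonneg.2 hp) (sq_nonneg p)) (sub_nonneg.2 hj),
    mul_le_mul_of_nonneg_left hj (sq_nonneg p), sq_nonneg (j - 1), sq_nonneg p,
    mul_nonneg (sq_nonneg p) (mul_nonneg (sub_nonneg.2 hj) (sub_nonneg.2 hj))]

theorem plus_bound {p i r : ℝ} (hp : 7 ≤ p) (hi : 1 ≤ i) (hr : (p - 1) * i + 2 ≤ r) :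
    (p - 1) ^ 2 / p ^ 2 ≤ r ^ 2 / ((p * i + 1) * (p * i + 2)) := by
  have hA : 0 ≤ (p - 1) * i + 2 := by nlinarith
  rw [div_le_div_iff₀ (by positivity) (mul_pos (by nlinarith) (by nlinarith))]
  refine le_trans ?_ (mul_le_mul_of_nonneg_right (pow_le_pow_left₀ hA hr 2) (sq_nonneg p))
  nlinarith [mul_nonneg (mul_nonneg (by linarith : (0 : ℝ) ≤ p - 1) (by linarith : (0 : ℝ) ≤ p))
    (mul_nonneg (by linarith : (0 : ℝ) ≤ i) (by linarith : (0 : ℝ) ≤ p + 3)), sq_nonneg (p - 1)]

theorem minus_bound {p i r : ℝ} (hp : 7 ≤ p) (hi : 1 ≤ i) (hr : (p - 1) * i ≤ r) :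
    (p - 1) ^ 2 / p ^ 2 ≤ r ^ 2 / ((p * i - 2) * (p * i - 1)) := by
  have hA : 0 ≤ (p - 1) * i := by nlinarith
  rw [div_le_div_iff₀ (by positivity) (mul_pos (by nlinarith) (by nlinarith))]
  refine le_trans ?_ (mul_le_mul_of_nonneg_right (pow_le_pow_left₀ hA hr 2) (sq_nonneg p))
  nlinarith [mul_nonneg (sq_nonneg (p - 1)) (by nlinarith : (0 : ℝ) ≤ 3 * p * i - 2)]

open scoped Classical in
/-- The principal sum is large. -/
theorem Loc.norm_S_principal_ge (L : Loc p x a) {ζ : IrrCharacter G}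
    (hfaith : ∀ g : G, (ζ : G → ℂ) g = (ζ : G → ℂ) 1 → g = 1)
    (hdeg : charDegree (ζ : G → ℂ) + 2 = p)
    (hnn : ∀ H : Subgroup G, H.Normal → Nat.card H ≠ p)
    (P : Fam L (principalIrr (Subgroup.center G))) (hPA : P.A = principalIrr G) (hPs : P.sA = 1) :
    ((p : ℝ) - 1) ^ 2 / (p : ℝ) ^ 2 ≤ ‖L.S (principalIrr (Subgroup.center G))‖ := by
  have hp7 : 7 ≤ p := by
    have := L.five_lt
    by_contra h
    have h6 : p = 6 := by omega
    exact absurd hp.out (by rw [h6]; norm_num)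
  have h1deg : charDegree ((principalIrr G : IrrCharacter G) : G → ℂ) = 1 := by
    simp [charDegree, principalIrr]
  have hPrel := P.degree_relation 1
  rw [hPA, hPs, h1deg] at hPrel
  have hPB := P.deg_B
  have hPθ := P.deg_θ 1
  have hS1 := P.S_eq
  rw [hPA, hPs] at hS1
  -- the bound for the principal sum
  set z := (P.B : G → ℂ) a with hz
  set w := (P.θ 1 : G → ℂ) a with hw
  have hrel1 : (1 : ℂ) + (P.sB : ℂ) * z = (P.ε : ℂ) * w := by
    have h := P.relation a L.regular_a 1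
    rw [hPA, hPs] at h
    simpa [principalIrr] using h
  have h1S : ((principalIrr G : IrrCharacter G) : G → ℂ) a ^ 2 /
      ((principalIrr G : IrrCharacter G) : G → ℂ) 1 = 1 := by simp [principalIrr]
  rw [h1S, ← Chars17.cast_irrDegree P.B, ← Chars17.cast_irrDegree (P.θ 1)] at hS1
  have hwm : ‖w‖ ≤ (P.m : ℝ) := by
    have := L.norm_value_le (P.θ 1)
    rwa [P.xm_θ_zero] at this
  have hzm : ‖z‖ ≤ (L.xm P.B 0 : ℝ) := L.norm_value_le P.B
  set dB := charDegree (P.B : G → ℂ)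
  set dθ := charDegree (P.θ 1 : G → ℂ)
  have hdB0 : 0 < dB := Chars17.irrDegree_pos P.B
  have hdθ0 : 0 < dθ := Chars17.irrDegree_pos (P.θ 1)
  rcases P.sB_spec with hb | hb <;> rw [hb] at hPrel hPB hS1 hrel1
  · have he : P.ε = 1 := by
      rcases P.ε_spec with h | h
      · exact h
      · rw [h] at hPrel; omega
    rw [he] at hPrel hPθ hS1 hrel1
    push_cast at hS1 hrel1
    have hd2 : dθ ≠ 2 := by
      intro h2
      refine L.degree_two_false hfaith hdeg hnn (χ := P.θ 1) (fun z hz => ?_) (fun hx1 => ?_) h2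
      · have := P.over_θ 1 1 ⟨z, hz⟩
        rw [one_mul] at this
        simpa [principalIrr] using this
      · obtain ⟨n', ρ, -, hρ⟩ := (P.θ 1).2
        rw [← hρ, Chars17.character_eq_one_iff] at hx1
        have hall : ∀ i : ZMod p, (P.θ 1 : G → ℂ) (pw x i) = (P.θ 1 : G → ℂ) 1 := fun i => by
          rw [← hρ, Chars17.character_eq_one_iff, pw, map_pow, hx1, one_pow]
        have h5 := L.xm_zero_eq (P.θ 1)
        simp only [hall, Finset.sum_const, Finset.card_univ, ZMod.card, nsmul_eq_mul,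
          ← Chars17.cast_irrDegree] at h5
        have h6 : P.m = dθ := by
          have := mul_left_cancel₀ (Nat.cast_ne_zero.2 hp.out.ne_zero) h5
          rw [P.xm_θ_zero] at this
          exact_mod_cast this
        change dθ = 2 at h2
        rw [h6, h2] at hPθ
        push_cast at hPθ
        omega
    set i := P.m
    have hi1 : 1 ≤ i := by
      by_contra h0
      have h0' : i = 0 := by omega
      rw [h0'] at hPθ
      push_cast at hPθ
      omega
    have hiR : (1 : ℝ) ≤ i := by exact_mod_cast hi1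
    have hd : (dθ : ℤ) = p * (i : ℤ) + 2 := by rw [hPθ]; ring
    have hb' : (dB : ℤ) = p * (i : ℤ) + 1 := by omega
    have hdR : (dθ : ℝ) = p * i + 2 := by exact_mod_cast hd
    have hbR : (dB : ℝ) = p * i + 1 := by exact_mod_cast hb'
    have hdC : (dθ : ℂ) = (dB : ℂ) + 1 := by
      have : (dθ : ℤ) = dB + 1 := by omega
      exact_mod_cast this
    have e : L.S (principalIrr (Subgroup.center G)) = ((dB : ℂ) - z) ^ 2 / ((dB : ℂ) * ((dB : ℂ) + 1)) := by
      rw [hS1, hdC, show w = 1 + z by linear_combination -hrel1]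
      have h1 : (dB : ℂ) ≠ 0 := Nat.cast_ne_zero.2 hdB0.ne'
      have h2 : (dB : ℂ) + 1 ≠ 0 := by exact_mod_cast Nat.succ_ne_zero dB
      field_simp
      ring
    have hge : ((p : ℝ) - 1) * i + 2 ≤ ‖(dB : ℂ) - z‖ := by
      have h1 : (dB : ℂ) - z = ((dB : ℂ) + 1) - w := by linear_combination -hrel1
      rw [h1]
      refine le_trans ?_ (norm_sub_norm_le _ _)
      rw [show (dB : ℂ) + 1 = ((dB + 1 : ℕ) : ℂ) by push_cast; ring, Complex.norm_natCast]
      push_cast
      rw [hbR]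
      linarith
    rw [e, norm_div, norm_pow, norm_mul, show (dB : ℂ) + 1 = ((dB + 1 : ℕ) : ℂ) by push_cast; ring,
      Complex.norm_natCast, Complex.norm_natCast]
    push_cast
    rw [hbR, show (p : ℝ) * i + 1 + 1 = p * i + 2 by ring]
    exact plus_bound (by exact_mod_cast hp7) hiR hge
  · have he : P.ε = -1 := by
      rcases P.ε_spec with h | h
      · exfalso
        rw [h] at hPrel
        omega
      · exact h
    rw [he] at hPrel hPθ hS1 hrel1
    push_cast at hS1 hrel1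
    set i := P.m
    have hi1 : 1 ≤ i := by
      by_contra h0
      have h0' : i = 0 := by omega
      rw [h0'] at hPθ
      push_cast at hPθ
      omega
    have hiR : (1 : ℝ) ≤ i := by exact_mod_cast hi1
    have hd : (dθ : ℤ) = p * (i : ℤ) - 2 := by rw [hPθ]; ring
    have hdR : (dθ : ℝ) = p * i - 2 := by exact_mod_cast hd
    have hdC : (dB : ℂ) = (dθ : ℂ) + 1 := by
      have : (dB : ℤ) = dθ + 1 := by omega
      exact_mod_cast this
    have hkB' : (L.xm P.B 0 : ℤ) = (i : ℤ) - 1 := by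
      have h5 : (p : ℤ) * ((L.xm P.B 0 : ℤ) + 1 - i) = 0 := by
        rw [show (dB : ℤ) = dθ + 1 by omega, hd] at hPB
        linear_combination -hPB
      rcases mul_eq_zero.1 h5 with h6 | h6 <;> omega
    have hzi : ‖z‖ ≤ (i : ℝ) - 1 := by
      refine hzm.trans (le_of_eq ?_)
      exact_mod_cast hkB'
    have e : L.S (principalIrr (Subgroup.center G)) = ((dθ : ℂ) - w) ^ 2 / ((dθ : ℂ) * ((dθ : ℂ) + 1)) := by
      rw [hS1, hdC, show z = 1 + w by linear_combination -hrel1]
      have h1 : (dθ : ℂ) ≠ 0 := Nat.cast_ne_zero.2 hdθ0.ne'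
      have h2 : (dθ : ℂ) + 1 ≠ 0 := by exact_mod_cast Nat.succ_ne_zero dθ
      field_simp
      ring
    have hge : ((p : ℝ) - 1) * i ≤ ‖(dθ : ℂ) - w‖ := by
      have h1 : (dθ : ℂ) - w = ((dθ : ℂ) + 1) - z := by linear_combination -hrel1
      rw [h1]
      refine le_trans ?_ (norm_sub_norm_le _ _)
      rw [show (dθ : ℂ) + 1 = ((dθ + 1 : ℕ) : ℂ) by push_cast; ring, Complex.norm_natCast]
      push_cast
      rw [hdR]
      linarith
    rw [e, norm_div, norm_pow, norm_mul, show (dθ : ℂ) + 1 = ((dθ + 1 : ℕ) : ℂ) by push_cast; ring,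
      Complex.norm_natCast, Complex.norm_natCast]
    push_cast
    rw [hdR, show (p : ℝ) * i - 2 + 1 = p * i - 1 by ring]
    exact minus_bound (by exact_mod_cast hp7) hiR hge

/-- **There is a linear character above the central character.** -/
theorem Loc.exists_linear (L : Loc p x a) {ζ : IrrCharacter G}
    (hfaith : ∀ g : G, (ζ : G → ℂ) g = (ζ : G → ℂ) 1 → g = 1)
    (hdeg : charDegree (ζ : G → ℂ) + 2 = p)
    (hnn : ∀ H : Subgroup G, H.Normal → Nat.card H ≠ p) :
    ∃ f : G →* ℂˣ, ∀ z : Subgroup.center G,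
      (ζ : G → ℂ) z = (ζ : G → ℂ) 1 * (f z : ℂ) := by
  classical
  obtain ⟨μ, hμ, hμ1⟩ := Loc.exists_over ζ
  obtain ⟨F0⟩ := L.exists_fam μ
  have hp7 : 7 ≤ p := by
    have := L.five_lt
    by_contra h
    have h6 : p = 6 := by omega
    exact absurd hp.out (by rw [h6]; norm_num)
  obtain ⟨⟨u, hu⟩, hε, hm⟩ := F0.exists_eq_θ hμ hdeg
  obtain ⟨F, hFθ, hFε, hFm, hsA, hsB⟩ : ∃ F : Fam L μ, F.θ u = ζ ∧ F.ε = -1 ∧ F.m = 1 ∧
      F.sA = 1 ∧ F.sB = -1 := by
    have h := F0.degree_relation u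
    rw [hu, hε] at h
    have hA := F0.deg_A
    have hB := F0.deg_B
    have hA0 := Chars17.irrDegree_pos F0.A
    have hB0 := Chars17.irrDegree_pos F0.B
    rcases F0.sA_spec with h1 | h1 <;> rcases F0.sB_spec with h2 | h2
    · rw [h1, h2] at h; omega
    · exact ⟨F0, hu, hε, hm, h1, h2⟩
    · exact ⟨F0.swap, hu, hε, hm, h2, h1⟩
    · exfalso
      rw [h1, h2] at h
      rw [h1] at hA
      rw [h2] at hB
      have h3 : (p : ℤ) - 1 ≤ (charDegree (F0.A : G → ℂ) : ℤ) := by nlinarith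
      have h4 : (p : ℤ) - 1 ≤ (charDegree (F0.B : G → ℂ) : ℤ) := by nlinarith
      omega
  have hrel := F.degree_relation u
  rw [hFθ, hsA, hsB, hFε] at hrel
  have hA := F.deg_A
  rw [hsA] at hA
  by_cases hM1 : charDegree (F.A : G → ℂ) = 1
  · obtain ⟨f, hf⟩ := LinearTwist.exists_hom_of_charDegree_one (irr_isCharacter F.A) hM1
    refine ⟨f, fun z => ?_⟩
    have h1 := hμ 1 z
    have h2 := F.over_A 1 z
    rw [one_mul] at h1 h2
    simp only [hf, map_one, Units.val_one, one_mul] at h2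
    rw [h1, h2]
  exfalso
  have hB := F.deg_B
  rw [hsB] at hB
  have hζ0 : L.xm ζ 0 = 1 := by rw [← hFθ, F.xm_θ_zero, hFm]
  have hζa : ‖(ζ : G → ℂ) a‖ = 1 := L.norm_value_eq_one hζ0
  have hζne : (ζ : G → ℂ) a ≠ 0 := fun h => by rw [h, norm_zero] at hζa; exact one_ne_zero hζa.symm
  -- the principal family
  set μ1 := principalIrr (Subgroup.center G)
  obtain ⟨P0⟩ := L.exists_fam μ1
  have h1over : Loc.Over (principalIrr G) μ1 := fun g z => by simp [μ1, principalIrr]
  have h1deg : charDegree ((principalIrr G : IrrCharacter G) : G → ℂ) = 1 := by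
    simp [charDegree, principalIrr]
  obtain ⟨P, hPA⟩ : ∃ P : Fam L μ1, P.A = principalIrr G := by
    rcases P0.cover _ h1over with h | h | ⟨v, hv⟩ | h
    · exact ⟨P0, h.symm⟩
    · exact ⟨P0.swap, h.symm⟩
    · exfalso
      have := P0.deg_θ v
      rw [hv, h1deg] at this
      have h6 : (p : ℤ) ∣ 1 - 2 * P0.ε := ⟨P0.m, by push_cast at this; linarith⟩
      rcases P0.ε_spec with h7 | h7 <;> rw [h7] at h6
      · have h6' : (p : ℤ) ∣ 1 := by have := dvd_neg.2 h6; norm_num at this; exact this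
        have := Int.le_of_dvd (by norm_num) h6'
        omega
      · have := Int.le_of_dvd (by norm_num) h6
        omega
    · exfalso
      have h' := L.sum_xm (principalIrr G)
      simp only [h, Finset.sum_const, Finset.card_univ, ZMod.card, smul_eq_mul, h1deg] at h'
      exact hp.out.ne_one (Nat.eq_one_of_mul_eq_one_right h')
  have hPA' := P.deg_A
  rw [hPA, h1deg] at hPA'
  have hPs : P.sA = 1 := by
    rcases P.sA_spec with h | h
    · exact h
    · exfalso
      rw [h] at hPA'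
      have h2 : (p : ℤ) ∣ 2 := ⟨(L.xm (principalIrr G) 0 : ℤ) + 1, by push_cast at hPA'; linarith⟩
      have := Int.le_of_dvd (by norm_num) h2
      omega
  -- the two sums
  have hSlam := F.S_eq
  rw [hsA, hsB, hFε] at hSlam
  have hnorm := L.norm_S_eq hfaith hζne (μ := μ) (ν := μ1) (norm_linear hμ1 _)
    (norm_linear (by simp [μ1, principalIrr]) _)
  -- the bound for the first sum
  set j := L.xm F.A 0 - 1
  have hkA : 2 ≤ L.xm F.A 0 := by
    by_contra hc
    have hA0 : (0 : ℤ) < charDegree (F.A : G → ℂ) := by exact_mod_cast Chars17.irrDegree_pos F.A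
    interval_cases hk : L.xm F.A 0
    · push_cast at hA; nlinarith
    · refine hM1 ?_
      push_cast at hA
      omega
  have hj1 : 1 ≤ j := by omega
  set M := charDegree (F.A : G → ℂ) with hMdef
  have hM : (M : ℝ) = p * j + 1 := by
    have : (M : ℤ) = p * (j : ℤ) + 1 := by
      rw [hA, show (j : ℤ) = (L.xm F.A 0 : ℤ) - 1 by omega]
    exact_mod_cast this
  have hkB : L.xm F.B 0 = j := by
    have h5 : (charDegree (F.B : G → ℂ) : ℤ) = M + ((p : ℤ) - 2) := by omega
    rw [h5, hA] at hB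
    have h6 : (p : ℤ) * ((L.xm F.B 0 : ℤ) - ((L.xm F.A 0 : ℤ) - 1)) = 0 := by linear_combination -hB
    rcases mul_eq_zero.1 h6 with h7 | h7 <;> omega
  have hζd : ((charDegree (ζ : G → ℂ) : ℕ) : ℂ) = (p : ℂ) - 2 := by
    rw [← hdeg]; push_cast; ring
  have hBd : (charDegree (F.B : G → ℂ) : ℂ) = (M : ℂ) + ((p : ℂ) - 2) := by
    have h5 : (charDegree (F.B : G → ℂ) : ℤ) = M + ((p : ℤ) - 2) := by omega
    exact_mod_cast h5
  set y := (F.A : G → ℂ) a with hy
  set v := (ζ : G → ℂ) a with hv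
  have hBa : (F.B : G → ℂ) a = y + v := by
    have h := F.relation a L.regular_a u
    rw [hFθ, hsA, hsB, hFε] at h
    push_cast at h
    linear_combination -h
  have hva : (F.θ 1 : G → ℂ) a = v := by rw [← F.θ_value_a u, hFθ]
  have hθd : (F.θ 1 : G → ℂ) 1 = (p : ℂ) - 2 := by
    rw [← F.θ_degree u, hFθ, ← Chars17.cast_irrDegree, hζd]
  have hyn : ‖y‖ ≤ (j : ℝ) + 1 := by
    refine (L.norm_value_le F.A).trans ?_
    have : L.xm F.A 0 = j + 1 := by omega
    rw [this]; push_cast; exact le_rfl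
  have hpR : (7 : ℝ) ≤ p := by exact_mod_cast hp7
  have hjR : (1 : ℝ) ≤ j := by exact_mod_cast hj1
  set n := (p : ℂ) - 2 with hn
  have hnR : ‖n‖ = (p : ℝ) - 2 := by
    rw [hn, show ((p : ℂ) - 2) = (((p : ℝ) - 2 : ℝ) : ℂ) by push_cast; ring, Complex.norm_real,
      Real.norm_eq_abs, abs_of_pos (by linarith)]
  have hMn : ‖(M : ℂ) + n‖ = (M : ℝ) + ((p : ℝ) - 2) := by
    rw [show (M : ℂ) + n = (((M : ℝ) + ((p : ℝ) - 2) : ℝ) : ℂ) by rw [hn]; push_cast; ring,
      Complex.norm_real, Real.norm_eq_abs,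
      abs_of_pos (by have := Nat.cast_nonneg (α := ℝ) M; linarith)]
  have hMne : (M : ℂ) ≠ 0 := Nat.cast_ne_zero.2 (Chars17.irrDegree_pos F.A).ne'
  have hnne : n ≠ 0 := fun h => by rw [h, norm_zero] at hnR; linarith
  have hMnne : (M : ℂ) + n ≠ 0 := fun h => by
    rw [h, norm_zero] at hMn; have := Nat.cast_nonneg (α := ℝ) M; linarith
  have hSlam' : L.S μ = (y * n - v * M) ^ 2 / ((M : ℂ) * n * ((M : ℂ) + n)) := by
    rw [hSlam, hva, hθd, hBa, ← Chars17.cast_irrDegree F.A, ← Chars17.cast_irrDegree F.B, hBd,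
      ← hMdef]
    push_cast
    field_simp
    ring
  have hlam : ‖L.S μ‖ < ((p : ℝ) - 1) ^ 2 / (p : ℝ) ^ 2 := by
    rw [hSlam', norm_div, norm_pow, norm_mul, norm_mul, Complex.norm_natCast, hnR, hMn]
    have hnum : ‖y * n - v * M‖ ≤ ((p : ℝ) - 1) * (2 * j + 1) := by
      refine (norm_sub_le _ _).trans ?_
      rw [norm_mul, norm_mul, hnR, hζa, one_mul, Complex.norm_natCast, hM]
      nlinarith [mul_le_mul_of_nonneg_right hyn (by linarith : (0 : ℝ) ≤ (p : ℝ) - 2)]
    rw [hM, div_lt_div_iff₀ (by have : (0:ℝ) < (p:ℝ) - 2 := by linarith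
                                positivity) (by positivity)]
    have h9 := quad_bound hpR hjR
    calc ‖y * n - v * ↑M‖ ^ 2 * (p : ℝ) ^ 2
        ≤ (((p : ℝ) - 1) * (2 * j + 1)) ^ 2 * (p : ℝ) ^ 2 := by gcongr
      _ = ((p : ℝ) - 1) ^ 2 * ((p : ℝ) ^ 2 * (2 * j + 1) ^ 2) := by ring
      _ < ((p : ℝ) - 1) ^ 2 * (((p : ℝ) * j + 1) * ((p : ℝ) - 2) * (((p : ℝ) * j + 1) + ((p : ℝ) - 2))) :=
          mul_lt_mul_of_pos_left h9 (by nlinarith)
  linarith [L.norm_S_principal_ge hfaith hdeg hnn P hPA hPs]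

end CfsgLib.PSubTwo
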