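import Cfsg.Agent.Lib.PSubTwo.Center
import Cfsg.Agent.Lib.PrimeDefect.PPrimeCount

/-!
# Groups with a faithful character of degree `p - 2`: the families of characters
-/

set_option autoImplicit false
set_option linter.unusedSectionVars false
set_option linter.style.haveILetI false

noncomputable section

namespace CfsgLib.PSubTwo

open Cfsg CfsgLib.Characters CfsgLib.PrimeDefect CfsgLib.SelfCentralPrime
open scoped ComplexConjugate

universe u

variable {G : Type u} [Group G] [Fintype G] {p : ℕ} [hp : Fact p.Prime] {x a : G}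

/-- Sums over the residues. -/
theorem sum_res {R : Type*} [AddCommMonoid R] (f : ZMod p → R) :
    ∑ i : ZMod p, f i = f 0 + ∑ u : (ZMod p)ˣ, f (u : ZMod p) := by
  classical
  rw [← Finset.add_sum_erase _ f (Finset.mem_univ (0 : ZMod p))]
  congr 1
  rw [eq_comm]
  exact Finset.sum_bij (fun u _ => (u : ZMod p))
    (fun u _ => Finset.mem_erase.2 ⟨u.ne_zero, Finset.mem_univ _⟩)
    (fun a _ b _ h => Units.ext h)
    (fun a ha => ⟨Units.mk0 a (Finset.mem_erase.1 ha).1, Finset.mem_univ _, rfl⟩) fun _ _ => rfl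

namespace Loc

/-- The multiplicity of the eigenvalue `i` of `x` in an irreducible character. -/
def xm (L : Loc p x a) (χ : IrrCharacter G) (i : ZMod p) : ℕ :=
  haveI := Fintype.ofFinite (Subgroup.centralizer ({x} : Set G))
  haveI := Fintype.ofFinite (Subgroup.center G)
  ∑ γ : IrrCharacter (Subgroup.center G), L.data.mult χ i γ

/-- The character lies over the linear character `μ` of the centre. -/
def Over (χ : IrrCharacter G) (μ : IrrCharacter (Subgroup.center G)) : Prop :=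
  ∀ (g : G) (z : Subgroup.center G), (χ : G → ℂ) (g * z) = (χ : G → ℂ) g * (μ : Subgroup.center G → ℂ) z

theorem exists_over (χ : IrrCharacter G) :
    ∃ μ : IrrCharacter (Subgroup.center G), Over χ μ ∧ (μ : Subgroup.center G → ℂ) 1 = 1 := by
  obtain ⟨n, ρ, hρi, hρ⟩ := χ.2
  haveI := hρi
  choose ω hω using fun z : Subgroup.center G =>
    CfsgLib.CharScalar.center_scalar ρ (z := (z : G)) z.2
  have hn : Nontrivial (Fin n → ℂ) := nontrivial_of_irreducible ρ
  have hinj : Function.Injective fun c : ℂ => c • (1 : Module.End ℂ (Fin n → ℂ)) :=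
    fun c d h => by
      obtain ⟨v, hv⟩ := exists_ne (0 : Fin n → ℂ)
      exact smul_left_injective ℂ hv (LinearMap.congr_fun h v)
  let f : Subgroup.center G →* ℂ :=
    { toFun := ω
      map_one' := hinj (by show ω 1 • (1 : Module.End ℂ (Fin n → ℂ)) = (1 : ℂ) • 1; rw [← hω 1, one_smul, OneMemClass.coe_one, map_one])
      map_mul' := fun z w => hinj (by
        show ω (z * w) • (1 : Module.End ℂ (Fin n → ℂ)) = (ω z * ω w) • 1
        rw [← hω (z * w), Subgroup.coe_mul, map_mul, hω, hω, smul_mul_smul_comm, one_mul]) }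
  refine ⟨⟨fun z => (f.toHomUnits z : ℂ), isIrrCharacter_of_hom f.toHomUnits⟩, fun g z => ?_, ?_⟩
  · rw [← hρ]
    show ρ.character (g * z) = ρ.character g * ω z
    rw [Representation.character, map_mul, hω, mul_smul_comm, mul_one, map_smul, smul_eq_mul,
      mul_comm]
    rfl
  · simp

theorem over_unique {χ : IrrCharacter G} {μ ν : IrrCharacter (Subgroup.center G)} (h : Over χ μ)
    (h' : Over χ ν) : μ = ν :=
  Subtype.ext (funext fun z => mul_left_cancel₀ (irr_one_ne_zero χ) ((h 1 z).symm.trans (h' 1 z)))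

variable (L : Loc p x a)

include L

theorem cj_eq [Fintype (Subgroup.centralizer ({x} : Set G))] [Fintype (Subgroup.center G)]
    (n : nrm x) (μ : IrrCharacter (Subgroup.center G)) : L.data.cj n μ = μ :=
  Subtype.ext (funext fun z => by
    rw [Data.cj_apply]
    have h : L.data.cjV n z = z := Subtype.ext (by
      rw [Data.cjV_coe, Subgroup.mem_center_iff.1 z.2 (n : G), mul_inv_cancel_right])
    rw [h])

theorem coef_over [Fintype (Subgroup.centralizer ({x} : Set G))] [Fintype (Subgroup.center G)]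
    {χ : IrrCharacter G} {μ : IrrCharacter (Subgroup.center G)} (h : Over χ μ) (i : ZMod p)
    (γ : IrrCharacter (Subgroup.center G)) [DecidableEq (IrrCharacter (Subgroup.center G))] :
    L.data.coef χ i γ = if μ = γ then (χ : G → ℂ) (pw x i) else 0 := by
  have h2 := classInner_irr μ γ
  rw [classInner] at h2
  have h3 : L.data.coef χ i γ = (χ : G → ℂ) (pw x i) * ((Nat.card (Subgroup.center G) : ℂ)⁻¹ *
      ∑ v : Subgroup.center G, (μ : Subgroup.center G → ℂ) v *
        conj ((γ : Subgroup.center G → ℂ) v)) := by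
    simp only [Data.coef, h _ _, mul_assoc, ← Finset.mul_sum]
    ring
  rw [h3, h2, mul_ite, mul_one, mul_zero]

theorem mult_other [Fintype (Subgroup.centralizer ({x} : Set G))] [Fintype (Subgroup.center G)]
    {χ : IrrCharacter G} {μ γ : IrrCharacter (Subgroup.center G)} (h : Over χ μ) (hne : γ ≠ μ)
    (i : ZMod p) : L.data.mult χ i γ = 0 := by
  classical
  have h1 := L.data.mult_eq χ i γ
  rw [Finset.sum_eq_zero (fun j _ => by rw [L.coef_over h j γ, if_neg (Ne.symm hne), zero_mul])] at h1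
  exact_mod_cast (mul_eq_zero.1 h1).resolve_left (Nat.cast_ne_zero.2 hp.out.ne_zero)

theorem xm_eq_mult [Fintype (Subgroup.centralizer ({x} : Set G))] [Fintype (Subgroup.center G)]
    {χ : IrrCharacter G} {μ : IrrCharacter (Subgroup.center G)} (h : Over χ μ) (i : ZMod p) :
    L.xm χ i = L.data.mult χ i μ := by
  unfold xm
  convert Finset.sum_eq_single μ (fun γ _ hγ => L.mult_other h hγ i)
    (fun hh => absurd (Finset.mem_univ μ) hh)

theorem value_pw (χ : IrrCharacter G) (i : ZMod p) :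
    (χ : G → ℂ) (pw x i) = ∑ j : ZMod p, (L.xm χ j : ℂ) * ZMod.stdAddChar (i * j) := by
  classical
  haveI := Fintype.ofFinite (Subgroup.centralizer ({x} : Set G))
  haveI := Fintype.ofFinite (Subgroup.center G)
  obtain ⟨μ, hμ, -⟩ := exists_over χ
  have h := L.data.coef_eq χ i μ
  rw [L.coef_over hμ, if_pos rfl] at h
  rw [h]
  exact Finset.sum_congr rfl fun j _ => by rw [L.xm_eq_mult hμ]

theorem xm_eq (χ : IrrCharacter G) (j : ZMod p) :
    (p : ℂ) * (L.xm χ j : ℂ) =
      ∑ i : ZMod p, (χ : G → ℂ) (pw x i) * ZMod.stdAddChar (i * -j) := by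
  classical
  haveI := Fintype.ofFinite (Subgroup.centralizer ({x} : Set G))
  haveI := Fintype.ofFinite (Subgroup.center G)
  obtain ⟨μ, hμ, -⟩ := exists_over χ
  rw [L.xm_eq_mult hμ, L.data.mult_eq]
  exact Finset.sum_congr rfl fun i _ => by rw [L.coef_over hμ, if_pos rfl]

theorem sum_xm (χ : IrrCharacter G) : ∑ j : ZMod p, L.xm χ j = charDegree (χ : G → ℂ) := by
  have h := L.value_pw χ 0
  rw [L.data.pw_zero, ← Chars17.cast_irrDegree] at h
  simp only [zero_mul, AddChar.map_zero_eq_one, mul_one] at h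
  exact_mod_cast h.symm

theorem xm_zero_eq (χ : IrrCharacter G) :
    (p : ℂ) * (L.xm χ 0 : ℂ) = ∑ i : ZMod p, (χ : G → ℂ) (pw x i) := by
  rw [L.xm_eq]
  exact Finset.sum_congr rfl fun i _ => by rw [neg_zero, mul_zero, AddChar.map_zero_eq_one, mul_one]

theorem value_x_of_const (χ : IrrCharacter G) (h : ∀ j, L.xm χ j = L.xm χ 0) :
    (χ : G → ℂ) x = 0 := by
  have h1 := L.value_pw χ 1
  rw [pw_one] at h1
  rw [h1]
  simp only [h, one_mul, ← Finset.mul_sum]
  rw [show ∑ j : ZMod p, ZMod.stdAddChar (j : ZMod p) =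
    ∑ j : ZMod p, ZMod.stdAddChar (j * 1) from Finset.sum_congr rfl fun j _ => by rw [mul_one],
    sum_std, if_neg one_ne_zero, mul_zero]

theorem neg_ne_one : (-1 : (ZMod p)ˣ) ≠ 1 := fun h => by
  have h2 : ((2 : ℕ) : ZMod p) = 0 := by
    have := congrArg (fun u : (ZMod p)ˣ => (u : ZMod p)) h
    simp only [Units.val_neg, Units.val_one] at this
    push_cast
    linear_combination -this
  have := Nat.le_of_dvd (by norm_num) ((ZMod.natCast_eq_zero_iff 2 p).1 h2)
  have := L.five_lt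
  omega

end Loc

/-- The family of characters over `μ`. -/
structure Fam (L : Loc p x a) (μ : IrrCharacter (Subgroup.center G)) where
  A : IrrCharacter G
  B : IrrCharacter G
  θ : (ZMod p)ˣ → IrrCharacter G
  sA : ℤ
  sB : ℤ
  ε : ℤ
  m : ℕ
  sA_spec : sA = 1 ∨ sA = -1
  sB_spec : sB = 1 ∨ sB = -1
  ε_spec : ε = 1 ∨ ε = -1
  A_ne_B : A ≠ B
  θ_eq : ∀ u v, θ u = θ v ↔ (v = u ∨ v = -u)
  θ_ne_A : ∀ u, θ u ≠ A
  θ_ne_B : ∀ u, θ u ≠ B
  over_A : Loc.Over A μ
  over_B : Loc.Over B μ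
  over_θ : ∀ u, Loc.Over (θ u) μ
  xm_A : ∀ v : (ZMod p)ˣ, (L.xm A (v : ZMod p) : ℤ) = L.xm A 0 - sA
  xm_B : ∀ v : (ZMod p)ˣ, (L.xm B (v : ZMod p) : ℤ) = L.xm B 0 - sB
  xm_θ_zero : ∀ u, L.xm (θ u) 0 = m
  xm_θ : ∀ u v : (ZMod p)ˣ, (L.xm (θ u) (v : ZMod p) : ℤ) =
    m + if v = u ∨ v = -u then ε else 0
  cover : ∀ χ, Loc.Over χ μ →
    χ = A ∨ χ = B ∨ (∃ u, θ u = χ) ∨ ∀ j, L.xm χ j = L.xm χ 0
  relation : ∀ y : G, ¬ p ∣ orderOf y → ∀ u,
    (sA : ℂ) * (A : G → ℂ) y + (sB : ℂ) * (B : G → ℂ) y = (ε : ℂ) * (θ u : G → ℂ) y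

theorem Loc.exists_fam (L : Loc p x a) (μ : IrrCharacter (Subgroup.center G)) :
    Nonempty (Fam L μ) := by
  classical
  haveI := Fintype.ofFinite (Subgroup.centralizer ({x} : Set G))
  haveI := Fintype.ofFinite (Subgroup.center G)
  obtain ⟨M, hM⟩ := CfsgLib.KGV.exists_isPModular p hp.out
  have D := L.data
  obtain ⟨B, hB, hμ⟩ := D.exists_hits hM μ
  set s : Finset (IrrCharacter G) := Finset.univ.filter (· ∈ B)
  have hs : ∀ χ, χ ∈ s ↔ χ ∈ B := fun χ => by simp [s]
  have hd : 0 < blockDefect p B := by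
    have h1 := D.sum_coef hM hB hs hμ (one_ne_zero (α := ZMod p)) 1
    rw [if_pos ⟨1, (D.expH μ).one_mem, by simp⟩] at h1
    obtain ⟨χ, hχ, hne⟩ := Finset.exists_ne_zero_of_sum_ne_zero
      (h1.trans_ne (Nat.cast_ne_zero.2 hp.out.ne_zero))
    have hdeg : ¬ p ∣ charDegree (χ : G → ℂ) := by
      intro hdvd
      refine hne ?_
      have hv : ∀ v : Subgroup.center G, (χ : G → ℂ) (pw x 1 * v) = 0 := fun v => by
        refine CfsgLib.DefectZeroVanish.vanish_of_defect_zero χ
          (by rwa [D.factorization_card_eq, pow_one]) ?_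
        rw [(D.commute_pw (D.V_le v.2) 1).symm.orderOf_mul_eq_mul_orderOf_of_coprime
          (by rw [D.orderOf_pw one_ne_zero]; exact hp.out.coprime_iff_not_dvd.2 (D.regular v.2)),
          D.orderOf_pw one_ne_zero]
        exact dvd_mul_right _ _
      have hc : D.coef χ 1 μ = 0 := by
        simp only [Data.coef, hv, zero_mul, Finset.sum_const_zero, mul_zero]
      rw [hc, zero_mul]
    rw [blockDefect, D.factorization_card_eq, Nat.sub_pos_iff_lt]
    exact lt_of_le_of_lt (Nat.sInf_le ⟨χ, (hs χ).1 hχ, rfl⟩) (by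
      dsimp only
      rw [Nat.factorization_eq_zero_of_not_dvd hdeg]; exact one_pos)
  obtain ⟨F⟩ := D.exists_family hM hB hd hμ
  -- the exponents
  have hexp : ∀ u : (ZMod p)ˣ, u ∈ D.expH μ ↔ u = 1 ∨ u = -1 := by
    intro u
    constructor
    · intro hu
      obtain ⟨n, -, rfl⟩ := D.mem_expH.1 hu
      rcases L.nrm_two n n.2 with h | h
      · left
        exact Units.ext (D.pw_inj (by rw [← D.mu_spec, h, Units.val_one, pw_one]))
      · right
        exact Units.ext (D.pw_inj (by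
          rw [← D.mu_spec, h, Units.val_neg, Units.val_one, D.pw_neg, pw_one]))
    · rintro (rfl | rfl)
      · exact (D.expH μ).one_mem
      · have ha : a ∈ nrm x := by
          rw [nrm]
          refine Subgroup.mem_normalizer_fintype fun g hg => ?_
          obtain ⟨k, rfl⟩ := Subgroup.mem_zpowers_iff.1 hg
          rw [← conj_zpow, L.inv, inv_zpow]
          exact inv_mem (Subgroup.zpow_mem _ (Subgroup.mem_zpowers x) k)
        refine D.mem_expH.2 ⟨⟨a, ha⟩, L.cj_eq _ _, Units.ext (D.pw_inj ?_)⟩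
        rw [← D.mu_spec, Units.val_neg, Units.val_one, D.pw_neg, pw_one]
        exact L.inv
  have horb : ∀ u v : (ZMod p)ˣ,
      ((u : D.Orbits μ) = (v : D.Orbits μ)) ↔ (v = u ∨ v = -u) := by
    intro u v
    rw [QuotientGroup.eq, hexp, inv_mul_eq_one, inv_mul_eq_iff_eq_mul, mul_neg, mul_one, eq_comm]
  have hcard : Nat.card (D.expH μ) = 2 := by
    have h : ((D.expH μ : Subgroup (ZMod p)ˣ) : Set (ZMod p)ˣ) = {1, -1} := Set.ext fun u => hexp u
    rw [← SetLike.coe_sort_coe, Nat.card_coe_set_eq, h, Set.ncard_pair L.neg_ne_one.symm]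
  obtain ⟨A, B', hAB, hX⟩ := Finset.card_eq_two.1 (F.card_X.trans hcard)
  have hA : A ∈ F.X := by simp [hX]
  have hB' : B' ∈ F.X := by simp [hX]
  have hover : ∀ χ ∈ B, Loc.Over χ μ := by
    intro χ hχ
    obtain ⟨ν, hν, -⟩ := Loc.exists_over χ
    obtain rfl : ν = μ := by
      by_contra hne
      obtain ⟨i, hi⟩ := D.exists_mult_ne hM hB hμ hd hχ
      exact hi (by rw [L.mult_other hν (Ne.symm hne), L.mult_other hν (Ne.symm hne)])
    exact hν
  refine ⟨⟨A, B', fun u => F.θ (u : D.Orbits μ), F.sign A, F.sign B', F.ε,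
    D.mult (F.θ ((1 : (ZMod p)ˣ) : D.Orbits μ)) 0 μ, F.sign_spec A hA, F.sign_spec B' hB',
    F.ε_spec, hAB, fun u v => ?_, fun u h => F.θ_notMem _ (h ▸ hA),
    fun u h => F.θ_notMem _ (h ▸ hB'), hover A (F.mem_of_mem_X hA), hover B' (F.mem_of_mem_X hB'),
    fun u => hover _ (F.θ_mem _), fun v => ?_, fun v => ?_, fun u => ?_, fun u v => ?_,
    fun χ hχ => ?_, fun y hy u => ?_⟩⟩
  · rw [F.θ_injective.eq_iff, horb]
  · rw [L.xm_eq_mult (hover A (F.mem_of_mem_X hA)), L.xm_eq_mult (hover A (F.mem_of_mem_X hA))]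
    exact F.mult_X A hA v
  · rw [L.xm_eq_mult (hover B' (F.mem_of_mem_X hB')), L.xm_eq_mult (hover B' (F.mem_of_mem_X hB'))]
    exact F.mult_X B' hB' v
  · rw [L.xm_eq_mult (hover _ (F.θ_mem _))]
    exact F.mult_zero_θ_eq _ _
  · rw [L.xm_eq_mult (hover _ (F.θ_mem _)), F.mult_θ, F.mult_zero_θ_eq _ ((1 : (ZMod p)ˣ) : D.Orbits μ)]
    congr 1
    exact if_congr (eq_comm.trans (horb u v)) rfl rfl
  · by_cases hmem : χ ∈ B
    · rcases (F.mem_iff χ).1 hmem with h | ⟨q, rfl⟩
      · rw [hX] at h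
        rcases Finset.mem_insert.1 h with h | h
        · exact Or.inl h
        · exact Or.inr (Or.inl (Finset.mem_singleton.1 h))
      · exact Or.inr (Or.inr (Or.inl ⟨q.out, congrArg F.θ q.out_eq⟩))
    · refine Or.inr (Or.inr (Or.inr fun j => ?_))
      rw [L.xm_eq_mult hχ, L.xm_eq_mult hχ]
      have h0 : ∀ i : ZMod p, i ≠ 0 → D.coef χ i μ = 0 := fun i hi =>
        D.coef_eq_zero_aux hM hi χ μ fun h => hmem (by
          rw [D.hits_unique hM hμ h]; exact Blocks.mem_blockOf_self hM χ)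
      have h : (p : ℂ) * ((D.mult χ j μ : ℂ) - D.mult χ 0 μ) = 0 := by
        rw [D.mult_sub]
        exact Finset.sum_eq_zero fun i hi => by rw [h0 i (Finset.mem_erase.1 hi).1, zero_mul]
      exact_mod_cast sub_eq_zero.1 ((mul_eq_zero.1 h).resolve_left
        (Nat.cast_ne_zero.2 hp.out.ne_zero))
  · rw [← F.relation y hy (u : D.Orbits μ), hX, Finset.sum_pair hAB]

namespace Fam

variable {L : Loc p x a} {μ : IrrCharacter (Subgroup.center G)} (F : Fam L μ)

include F

theorem deg_of_pattern {χ : IrrCharacter G} {s : ℤ}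
    (h : ∀ v : (ZMod p)ˣ, (L.xm χ (v : ZMod p) : ℤ) = L.xm χ 0 - s) :
    (charDegree (χ : G → ℂ) : ℤ) = p * ((L.xm χ 0 : ℤ) - s) + s := by
  rw [← L.sum_xm χ, Nat.cast_sum, sum_res fun j => (L.xm χ j : ℤ),
    Finset.sum_congr rfl fun v _ => h v, Finset.sum_const, Finset.card_univ, ZMod.card_units,
    nsmul_eq_mul, Nat.cast_sub hp.out.one_le]
  push_cast
  ring

theorem deg_A : (charDegree (F.A : G → ℂ) : ℤ) = p * ((L.xm F.A 0 : ℤ) - F.sA) + F.sA :=
  F.deg_of_pattern F.xm_A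

theorem deg_B : (charDegree (F.B : G → ℂ) : ℤ) = p * ((L.xm F.B 0 : ℤ) - F.sB) + F.sB :=
  F.deg_of_pattern F.xm_B

theorem ne_neg (u : (ZMod p)ˣ) : -u ≠ u := fun h => L.neg_ne_one (by
  have := congrArg (· * u⁻¹) h
  simpa using this)

theorem sum_pm {R : Type*} [AddCommMonoid R] (u : (ZMod p)ˣ) (c : R) :
    (∑ v : (ZMod p)ˣ, if v = u ∨ v = -u then c else 0) = c + c := by
  classical
  rw [← Finset.sum_filter]
  have : Finset.univ.filter (fun v : (ZMod p)ˣ => v = u ∨ v = -u) = {u, -u} := by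
    ext v; simp
  rw [this, Finset.sum_pair (F.ne_neg u).symm]

theorem deg_θ (u : (ZMod p)ˣ) :
    (charDegree (F.θ u : G → ℂ) : ℤ) = p * (F.m : ℤ) + 2 * F.ε := by
  classical
  rw [← L.sum_xm (F.θ u), Nat.cast_sum, sum_res fun j => (L.xm (F.θ u) j : ℤ),
    Finset.sum_congr rfl fun v _ => F.xm_θ u v, Finset.sum_add_distrib, F.sum_pm,
    Finset.sum_const, Finset.card_univ, ZMod.card_units, nsmul_eq_mul,
    Nat.cast_sub hp.out.one_le, F.xm_θ_zero]
  push_cast
  ring

theorem value_x_of_pattern {χ : IrrCharacter G} {s : ℤ}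
    (h : ∀ v : (ZMod p)ˣ, (L.xm χ (v : ZMod p) : ℤ) = L.xm χ 0 - s) :
    (χ : G → ℂ) x = s := by
  have h1 := L.value_pw χ 1
  rw [pw_one] at h1
  rw [h1, sum_res]
  have h2 : ∀ v : (ZMod p)ˣ, (L.xm χ (v : ZMod p) : ℂ) = (L.xm χ 0 : ℂ) - s := fun v => by
    have := congrArg (Int.cast : ℤ → ℂ) (h v)
    simpa using this
  have h3 : ∑ j : ZMod p, ZMod.stdAddChar j = (0 : ℂ) := by
    rw [show ∑ j : ZMod p, ZMod.stdAddChar j = ∑ j : ZMod p, ZMod.stdAddChar (j * 1) from
      Finset.sum_congr rfl fun j _ => by rw [mul_one], sum_std, if_neg one_ne_zero]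
  rw [sum_res, AddChar.map_zero_eq_one] at h3
  simp only [one_mul, AddChar.map_zero_eq_one, mul_one, h2, ← Finset.mul_sum]
  linear_combination ((L.xm χ 0 : ℂ) - (s : ℂ)) * h3

theorem sum_θ_x : ∑ u : (ZMod p)ˣ, (F.θ u : G → ℂ) x = -2 * (F.ε : ℂ) := by
  classical
  have h1 : ∀ u, (F.θ u : G → ℂ) x = ∑ j : ZMod p, (L.xm (F.θ u) j : ℂ) * ZMod.stdAddChar j := by
    intro u
    have h := L.value_pw (F.θ u) 1
    rw [pw_one] at h
    simpa using h
  have h3 : ∑ j : ZMod p, ZMod.stdAddChar j = (0 : ℂ) := by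
    rw [show ∑ j : ZMod p, ZMod.stdAddChar j = ∑ j : ZMod p, ZMod.stdAddChar (j * 1) from
      Finset.sum_congr rfl fun j _ => by rw [mul_one], sum_std, if_neg one_ne_zero]
  rw [sum_res, AddChar.map_zero_eq_one] at h3
  simp only [h1]
  rw [Finset.sum_comm, sum_res]
  have h2 : ∀ v : (ZMod p)ˣ, ∑ u : (ZMod p)ˣ, (L.xm (F.θ u) (v : ZMod p) : ℂ) =
      ((p : ℂ) - 1) * F.m + 2 * F.ε := by
    intro v
    have e : ∀ u, (L.xm (F.θ u) (v : ZMod p) : ℂ) =
        (F.m : ℂ) + if u = v ∨ u = -v then (F.ε : ℂ) else 0 := fun u => by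
      have h := congrArg (Int.cast : ℤ → ℂ) (F.xm_θ u v)
      push_cast at h
      rw [h]
      congr 1
      refine if_congr ?_ rfl rfl
      rw [eq_comm (a := v) (b := u), eq_comm (a := v) (b := -u), neg_eq_iff_eq_neg]
    simp only [e, Finset.sum_add_distrib, F.sum_pm, Finset.sum_const, Finset.card_univ,
      ZMod.card_units, nsmul_eq_mul, Nat.cast_sub hp.out.one_le, Nat.cast_one]
    ring
  simp only [← Finset.sum_mul, h2, F.xm_θ_zero, Finset.sum_const, Finset.card_univ,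
    ZMod.card_units, nsmul_eq_mul, Nat.cast_sub hp.out.one_le, Nat.cast_one,
    AddChar.map_zero_eq_one, mul_one, ← Finset.mul_sum]
  linear_combination (((p : ℂ) - 1) * F.m + 2 * F.ε) * h3

open scoped Classical in
/-- Sums over the characters over `μ` of a function vanishing outside the family. -/
theorem two_sum (f : IrrCharacter G → ℂ)
    (hf : ∀ χ, Loc.Over χ μ → (∀ j, L.xm χ j = L.xm χ 0) → f χ = 0) :
    2 * ∑ χ ∈ Finset.univ.filter (fun χ => Loc.Over χ μ), f χ =
      2 * f F.A + 2 * f F.B + ∑ u : (ZMod p)ˣ, f (F.θ u) := by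
  classical
  set T := Finset.univ.image F.θ
  have hsub : insert F.A (insert F.B T) ⊆ Finset.univ.filter (fun χ => Loc.Over χ μ) := by
    intro χ hχ
    simp only [T, Finset.mem_insert, Finset.mem_image, Finset.mem_univ, true_and] at hχ
    refine Finset.mem_filter.2 ⟨Finset.mem_univ _, ?_⟩
    rcases hχ with rfl | rfl | ⟨u, rfl⟩
    exacts [F.over_A, F.over_B, F.over_θ u]
  rw [← Finset.sum_subset hsub fun χ hχ hn => by
    simp only [T, Finset.mem_insert, Finset.mem_image, Finset.mem_univ, true_and, not_or,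
      not_exists] at hn
    refine hf χ (Finset.mem_filter.1 hχ).2 ?_
    rcases F.cover χ (Finset.mem_filter.1 hχ).2 with h | h | ⟨u, h⟩ | h
    exacts [absurd h hn.1, absurd h hn.2.1, absurd h (hn.2.2 u), h]]
  rw [Finset.sum_insert (by simp [T, F.A_ne_B, F.θ_ne_A]),
    Finset.sum_insert (by simp [T, F.θ_ne_B])]
  have h2 : ∑ u : (ZMod p)ˣ, f (F.θ u) = 2 * ∑ χ ∈ T, f χ := by
    rw [← Finset.sum_fiberwise_of_maps_to (g := F.θ) (t := T)
      (fun u _ => Finset.mem_image_of_mem _ (Finset.mem_univ u)), Finset.mul_sum]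
    refine Finset.sum_congr rfl fun χ hχ => ?_
    obtain ⟨u, -, rfl⟩ := Finset.mem_image.1 hχ
    have : Finset.univ.filter (fun v => F.θ v = F.θ u) = {u, -u} := by
      ext v
      simp only [Finset.mem_filter, Finset.mem_univ, true_and, Finset.mem_insert,
        Finset.mem_singleton]
      rw [eq_comm, F.θ_eq]
    rw [this, Finset.sum_pair (F.ne_neg u).symm, ← (F.θ_eq u (-u)).2 (Or.inr rfl)]
    ring
  rw [h2]
  ring

end Fam

end CfsgLib.PSubTwo
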