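import Cfsg.Agent.Lib.PSubTwo.Order
import Cfsg.Agent.Lib.BrauerArtin.Cube

/-!
# Groups with a faithful character of degree `p - 2`
-/

set_option autoImplicit false
set_option linter.unusedSectionVars false
set_option linter.style.haveILetI false

noncomputable section

namespace CfsgLib.PSubTwo

open Cfsg CfsgLib.Characters CfsgLib.PrimeDefect CfsgLib.SelfCentralPrime
open scoped ComplexConjugate

universe u

variable {G : Type u} [Group G] [Fintype G] {p : ℕ} [hp : Fact p.Prime] {x a : G}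

/-- The quotient by the centre has trivial centre. -/
theorem Loc.center_quot (L : Loc p x a) {b : G ⧸ Subgroup.center G}
    (L0 : Loc p (x : G ⧸ Subgroup.center G) b) :
    Subgroup.center (G ⧸ Subgroup.center G) = ⊥ := by
  rw [Subgroup.eq_bot_iff_forall]
  intro q hq
  have hreg := L0.data.regular hq
  induction q using QuotientGroup.induction_on with | H z => ?_
  have hxp : x ^ p = 1 := by rw [← L.data.hx, pow_orderOf_eq_one]
  -- `z` centralises `x`
  have hw : z * x * z⁻¹ * x⁻¹ ∈ Subgroup.center G := by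
    rw [← QuotientGroup.eq_one_iff]
    simp only [QuotientGroup.mk_mul, QuotientGroup.mk_inv]
    rw [← Subgroup.mem_center_iff.1 hq, mul_inv_cancel_right, mul_inv_cancel]
  have hcomm : Commute z x := by
    set w := z * x * z⁻¹ * x⁻¹ with hwdef
    have hwx : z * x * z⁻¹ = w * x := by rw [hwdef]; group
    have hcw : Commute w x := (Subgroup.mem_center_iff.1 hw x).symm
    have h1 : (w * x) ^ p = 1 := by rw [← hwx, conj_pow, hxp, mul_one, mul_inv_cancel]
    rw [hcw.mul_pow, hxp, mul_one] at h1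
    rcases (Nat.dvd_prime hp.out).1 (orderOf_dvd_of_pow_eq_one h1) with h2 | h2
    · rw [orderOf_eq_one_iff] at h2
      rw [h2, one_mul] at hwx
      exact mul_inv_eq_iff_eq_mul.1 hwx
    · exact absurd (dvd_of_eq h2.symm) (L.data.regular hw)
  have hzp : ¬ p ∣ orderOf (z ^ p) := by
    intro hd
    have hdz : p ∣ orderOf z := hd.trans (orderOf_dvd_of_mem_zpowers (Subgroup.pow_mem _ (Subgroup.mem_zpowers z) p))
    rw [orderOf_pow_of_dvd hp.out.ne_zero hdz] at hd
    refine L.data.hsq (dvd_trans ?_ (orderOf_dvd_natCard z))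
    rw [sq]
    exact (Nat.mul_dvd_mul_left p hd).trans (dvd_of_eq (Nat.mul_div_cancel' hdz))
  have h3 := L.mem_C_center_of_regular (hcomm.pow_left p) hzp
  rw [← QuotientGroup.eq_one_iff, QuotientGroup.mk_pow] at h3
  rcases (Nat.dvd_prime hp.out).1 (orderOf_dvd_of_pow_eq_one h3) with h2 | h2
  · exact orderOf_eq_one_iff.1 h2
  · exact absurd (dvd_of_eq h2.symm) hreg

namespace Core

variable {ζ : IrrCharacter G} (K : Core p x a ζ)

include K

/-- The group is perfect. -/
theorem perfect : commutator G = ⊤ := by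
  classical
  obtain ⟨F, u, hA, -, -, -, -, hu, hdB, -⟩ := K.exists_fam
  have hp7 := K.seven_le
  have htriv : ∀ f : G →* ℂˣ, ∀ g, f g = 1 := by
    intro f g
    let χ : IrrCharacter G := ⟨fun g => (f g : ℂ), isIrrCharacter_of_hom f⟩
    have hd1 : charDegree (χ : G → ℂ) = 1 :=
      LinearTwist.charDegree_eq_of_apply_one (n := 1) (by simp [χ])
    rcases F.cover χ (K.loc.over_principal K.hZ χ) with h | h | ⟨v, h⟩ | h
    · have e := congrFun (congrArg Subtype.val h) g
      rw [hA] at e
      exact Units.ext (by simpa [χ, principalIrr_apply] using e)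
    · exfalso; rw [← h, hd1] at hdB; omega
    · exfalso
      have h1 := F.deg_θ v
      have h2 := F.deg_θ u
      rw [h, hd1] at h1
      rw [hu] at h2
      have := K.hdeg
      omega
    · exfalso
      have h' := K.loc.sum_xm χ
      simp only [h, Finset.sum_const, Finset.card_univ, ZMod.card, smul_eq_mul, hd1] at h'
      exact hp.out.ne_one (Nat.eq_one_of_mul_eq_one_right h')
  by_contra hne
  obtain ⟨g, hg⟩ : ∃ g, g ∉ commutator G := by
    by_contra hall
    push Not at hall
    exact hne ((Subgroup.eq_top_iff' _).2 hall)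
  obtain ⟨φ, hφ⟩ := CommGroup.exists_apply_ne_one_of_hasEnoughRootsOfUnity (Abelianization G) ℂ
    (a := Abelianization.of g)
    fun h => hg (by rwa [← MonoidHom.mem_ker, Abelianization.ker_of] at h)
  exact hφ (htriv (φ.comp Abelianization.of) g)

/-- The group is `SL(2, 2 ^ k)`. -/
theorem exists_sl (hnn : ∀ H : Subgroup G, H.Normal → Nat.card H ≠ p) :
    ∃ (m : ℕ) (F : Type) (_ : Field F) (_ : Fintype F), p = 2 ^ m + 1 ∧
      Fintype.card F = 2 ^ m ∧ Nonempty (G ≃* Matrix.SpecialLinearGroup (Fin 2) F) := by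
  classical
  have hp7 := K.seven_le
  obtain ⟨k, -, hG⟩ := K.group_order
  have hbig : Nat.card G < p ^ 3 := by
    rw [hG, pow_succ, sq, mul_assoc, mul_assoc]
    exact Nat.mul_lt_mul_of_pos_left (Nat.mul_lt_mul'' (by omega) (by omega)) (by omega)
  have hdvd : p ∣ Nat.card G := K.loc.data.hx ▸ orderOf_dvd_natCard x
  let P : Sylow p G := default
  have hP : ¬ (P : Subgroup G).Normal := fun h => hnn _ h (by
    rw [P.card_eq_multiplicity, K.loc.data.factorization_card_eq, pow_one])
  have h2 : ∀ N : Subgroup G, N.Normal → Nat.card N ≠ 2 := by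
    intro N hN hc
    obtain ⟨t, t', htt, huniv⟩ := Nat.card_eq_two_iff.1 hc
    obtain ⟨s, hsN, hs1⟩ : ∃ s ∈ N, s ≠ 1 := by
      refine (Subgroup.bot_or_exists_ne_one N).resolve_left fun h => ?_
      rw [h, Subgroup.card_bot] at hc
      omega
    have huniq : ∀ r ∈ N, r = 1 ∨ r = s := by
      intro r hr
      have hall : ∀ y : N, y = t ∨ y = t' := fun y => by
        have : y ∈ ({t, t'} : Set N) := huniv ▸ Set.mem_univ y
        simpa using this
      by_contra hne
      push Not at hne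
      rcases hall 1 with h1 | h1 <;> rcases hall ⟨s, hsN⟩ with h3 | h3 <;>
        rcases hall ⟨r, hr⟩ with h4 | h4 <;>
        first
          | exact hs1 (congrArg Subtype.val (h3.trans h1.symm))
          | exact hne.1 (congrArg Subtype.val (h4.trans h1.symm))
          | exact hne.2 (congrArg Subtype.val (h4.trans h3.symm))
    have hsc : s ∈ Subgroup.center G := Subgroup.mem_center_iff.2 fun g => by
      rcases huniq _ (hN.conj_mem s hsN g) with h | h
      · exact absurd (conj_eq_one_iff.1 h) hs1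
      · exact mul_inv_eq_iff_eq_mul.1 h
    exact hs1 (Subgroup.mem_bot.1 (K.hZ ▸ hsc))
  rcases CfsgLib.BrauerArtin.cube K.perfect hdvd hbig P hP h2 with
    ⟨F, iF, iT, hF, -, ⟨e⟩⟩ | ⟨m, F, iF, iT, hF, hpm, -, he⟩
  · exfalso
    have hc := CfsgLib.PSL2.card_psl (F := F)
    rw [hF, ← Nat.card_congr e.toEquiv, hG] at hc
    have hg : Nat.gcd 2 (p - 1) ≤ 2 := Nat.le_of_dvd two_pos (Nat.gcd_dvd_left _ _)
    obtain ⟨q, rfl⟩ : ∃ q, p = q + 2 := ⟨p - 2, by omega⟩
    simp only [show q + 2 - 1 = q + 1 from rfl, Nat.add_sub_cancel] at hc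
    have h1 : Nat.gcd 2 (q + 1) * q = q + 3 := by
      refine Nat.eq_of_mul_eq_mul_left (show 0 < (q + 2) * (q + 1) by positivity) ?_
      linear_combination hc
    simp only [show q + 2 - 1 = q + 1 from rfl] at hg
    interval_cases hgc : Nat.gcd 2 (q + 1) <;> omega
  · exact ⟨m, F, iF, iT, hpm, hF, he⟩

end Core

/-- **Groups with a faithful irreducible character of degree `p - 2`.** -/
theorem main (hx : orderOf x = p) (hsq : ¬ p ^ 2 ∣ Nat.card G) (hp5 : 5 < p)
    (hnn : ∀ H : Subgroup G, H.Normal → Nat.card H ≠ p) (χ : IrrCharacter G)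
    (hfaith : ∀ g : G, (χ : G → ℂ) g = (χ : G → ℂ) 1 → g = 1)
    (hdeg : charDegree (χ : G → ℂ) + 2 = p) :
    ∃ (m : ℕ) (F : Type) (_ : Field F) (_ : Fintype F), p = 2 ^ m + 1 ∧
      Fintype.card F = 2 ^ m ∧
      Nonempty (G ≃* Matrix.SpecialLinearGroup (Fin 2) F × Subgroup.center G) := by
  classical
  obtain ⟨a, L⟩ := exists_loc hx hsq hp5 hnn χ hfaith hdeg
  obtain ⟨f, hf⟩ := L.exists_linear hfaith hdeg hnn
  let χ' : IrrCharacter G :=
    ⟨fun g => (χ : G → ℂ) g * ((f⁻¹ g : ℂˣ) : ℂ), LinearTwist.isIrr_mul_hom χ.2 f⁻¹⟩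
  have h1 : (χ' : G → ℂ) 1 = (χ : G → ℂ) 1 := by simp [χ']
  have hz : ∀ z ∈ Subgroup.center G, (χ' : G → ℂ) z = (χ' : G → ℂ) 1 := by
    intro z hz
    rw [h1]
    show (χ : G → ℂ) z * _ = _
    rw [show (χ : G → ℂ) z = _ from hf ⟨z, hz⟩]
    simp
  have hx' : (χ' : G → ℂ) x ≠ (χ' : G → ℂ) 1 := by
    intro h
    refine L.data.regular (mem_center_of_norm χ hfaith ?_) (dvd_of_eq hx.symm)
    have h2 := congrArg norm h
    rw [h1, ← Chars17.cast_irrDegree, Complex.norm_natCast] at h2
    rw [← h2]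
    show ‖(χ : G → ℂ) x‖ = ‖(χ : G → ℂ) x * _‖
    have hn : ‖((f⁻¹ x : ℂˣ) : ℂ)‖ = 1 := Complex.norm_eq_one_of_pow_eq_one (n := Nat.card G)
      (by rw [← Units.val_pow_eq_pow_val, ← map_pow, pow_card_eq_one', map_one, Units.val_one])
      Nat.card_pos.ne'
    rw [norm_mul, hn, mul_one]
  obtain ⟨η, -, hηd, hηf⟩ := L.exists_quot hfaith hdeg hz hx'
  have hdeg' : charDegree (η : (G ⧸ Subgroup.center G) → ℂ) + 2 = p := by
    rw [hηd, ← hdeg]
    simp [charDegree, h1]
  haveI := Fintype.ofFinite (G ⧸ Subgroup.center G)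
  obtain ⟨b, L0⟩ := exists_loc L.orderOf_mk L.sq_quot hp5 (L.no_normal_quot hnn) η hηf hdeg'
  have K : Core p (x : G ⧸ Subgroup.center G) b η := ⟨L0, L.center_quot L0, hdeg', hηf⟩
  obtain ⟨m, F, iF, iT, hpm, hF, ⟨e⟩⟩ := K.exists_sl (L.no_normal_quot hnn)
  refine ⟨m, F, iF, iT, hpm, hF, ?_⟩
  -- the kernel of the linear character is a complement of the centre
  set π := QuotientGroup.mk' (Subgroup.center G)
  have hinj : Function.Injective (π.comp f.ker.subtype) := by
    rw [injective_iff_map_eq_one]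
    rintro ⟨g, hg⟩ hgz
    rw [MonoidHom.mem_ker] at hg
    have hgc : g ∈ Subgroup.center G := (QuotientGroup.eq_one_iff g).1 hgz
    refine Subtype.ext (hfaith g ?_)
    rw [show (χ : G → ℂ) g = _ from hf ⟨g, hgc⟩, hg, Units.val_one, mul_one]
  have hsurj : Function.Surjective (π.comp f.ker.subtype) := by
    rw [← MonoidHom.range_eq_top, MonoidHom.range_comp, Subgroup.range_subtype, eq_top_iff,
      ← K.perfect, commutator_def,
      ← Subgroup.map_top_of_surjective π (QuotientGroup.mk'_surjective _),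
      ← Subgroup.map_commutator]
    exact Subgroup.map_mono (Abelianization.commutator_subset_ker f)
  let eK : f.ker ≃* G ⧸ Subgroup.center G := MulEquiv.ofBijective _ ⟨hinj, hsurj⟩
  let Φ : f.ker × Subgroup.center G →* G :=
    MonoidHom.noncommCoprod f.ker.subtype (Subgroup.center G).subtype
      fun k z => Subgroup.mem_center_iff.1 z.2 k
  have hΦ : Function.Bijective Φ := by
    constructor
    · rw [injective_iff_map_eq_one]
      rintro ⟨k, z⟩ h
      change (k : G) * (z : G) = 1 at h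
      have hk : k = 1 := hinj (by
        rw [map_one]
        show ((k : G) : G ⧸ Subgroup.center G) = 1
        rw [QuotientGroup.eq_one_iff, eq_inv_of_mul_eq_one_left h]
        exact inv_mem z.2)
      subst hk
      rw [OneMemClass.coe_one, one_mul] at h
      exact Prod.ext rfl (Subtype.ext h)
    · intro g
      obtain ⟨k, hk⟩ := hsurj (g : G ⧸ Subgroup.center G)
      have hz : (k : G)⁻¹ * g ∈ Subgroup.center G := QuotientGroup.eq.1 hk
      exact ⟨(k, ⟨_, hz⟩), mul_inv_cancel_left (k : G) g⟩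
  exact ⟨(MulEquiv.ofBijective Φ hΦ).symm.trans
    ((eK.trans e).prodCongr (MulEquiv.refl _))⟩

end CfsgLib.PSubTwo
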