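import Cfsg.Agent.Lib.PSubTwo.Square

/-!
# Degree `p - 2` with trivial centre: the centraliser of an involution and the group order
-/

set_option autoImplicit false
set_option linter.unusedSectionVars false
set_option linter.style.haveILetI false

noncomputable section

namespace CfsgLib.PSubTwo

open Cfsg CfsgLib.Characters CfsgLib.PrimeDefect CfsgLib.SelfCentralPrime
open scoped ComplexConjugate

universe u

variable {G : Type u} [Group G] [Fintype G] {p : ℕ} [hp : Fact p.Prime] {x a : G}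

/-- The character of one eigenspace of an involution on a commuting subgroup. -/
theorem exists_eigen_part {χ : G → ℂ} (hχ : IsCharacter G χ) {t : G} (ht : t * t = 1)
    (s : ℂ) (hs : s = 1 ∨ s = -1) (H : Subgroup G) (hH : ∀ h ∈ H, Commute h t) :
    ∃ f : H → ℂ, IsCharacter H f ∧ ∀ h : H, f h = (χ h + s * χ (h * t)) / 2 := by
  obtain ⟨n, ρ, rfl⟩ := hχ
  set π : Module.End ℂ (Fin n → ℂ) := (2 : ℂ)⁻¹ • (1 + s • ρ t) with hπ
  have hss : s * s = 1 := by rcases hs with rfl | rfl <;> norm_num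
  have htt : ρ t * ρ t = 1 := by rw [← map_mul, ht, map_one]
  have hidem : π * π = π := by
    rw [hπ, smul_mul_smul_comm, add_mul, mul_add, mul_add, one_mul, one_mul, mul_one,
      smul_mul_smul_comm, htt, hss, one_smul]
    module
  have hcomm : ∀ h : H, Commute (ρ (h : G)) π := fun h => by
    rw [hπ]
    refine ((Commute.one_right _).add_right (Commute.smul_right ?_ s)).smul_right _
    show ρ (h : G) * ρ t = ρ t * ρ (h : G)
    rw [← map_mul, ← map_mul, (hH h h.2).eq]
  let W : Submodule ℂ (Fin n → ℂ) := LinearMap.range π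
  have hπW : ∀ w ∈ W, π w = w := by
    rintro _ ⟨v, rfl⟩
    exact LinearMap.congr_fun hidem v
  have hinv : ∀ h : H, ∀ w ∈ W, ρ (h : G) w ∈ W := fun h w hw =>
    ⟨ρ (h : G) w, by
      rw [← Module.End.mul_apply, ← (hcomm h).eq, Module.End.mul_apply, hπW w hw]⟩
  let R : Representation ℂ H W :=
    { toFun := fun h => (ρ (h : G)).restrict (hinv h)
      map_one' := by ext w; simp
      map_mul' := fun g h => by ext w; simp }
  refine ⟨R.character, isCharacter_character R, fun h => ?_⟩
  have hmem : ∀ v, (ρ (h : G) * π) v ∈ W := fun v => hinv h _ ⟨v, rfl⟩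
  have h1 := LinearMap.trace_restrict_eq_of_forall_mem W (ρ (h : G) * π) hmem
  have h2 : (ρ (h : G) * π).restrict (p := W) (q := W) (fun v _ => hmem v) = R h :=
    LinearMap.ext fun w => Subtype.ext (congrArg (ρ (h : G)) (hπW w w.2))
  rw [h2] at h1
  rw [Representation.character, h1, hπ, mul_smul_comm, mul_add, mul_one, mul_smul_comm, ← map_mul,
    map_smul, map_add, map_smul, smul_eq_mul, smul_eq_mul]
  simp only [Representation.character]
  ring

/-- Irreducible characters of commutative groups are linear. -/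
theorem irr_one_of_comm {H : Type*} [Group H] [Fintype H] (hcomm : ∀ g h : H, g * h = h * g)
    (η : IrrCharacter H) : (η : H → ℂ) 1 = 1 := by
  obtain ⟨μ, hμ, hμ1⟩ := Loc.exists_over η
  have hnorm : ∀ h : H, (η : H → ℂ) h * conj ((η : H → ℂ) h) = ((η : H → ℂ) 1) ^ 2 := by
    intro h
    have hz : h ∈ Subgroup.center H := Subgroup.mem_center_iff.2 fun g => hcomm g h
    have h1 := hμ 1 ⟨h, hz⟩
    rw [one_mul] at h1
    rw [h1, map_mul, Chars17.conj_irr_one, mul_mul_mul_comm,
      Complex.mul_conj', norm_linear hμ1]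
    push_cast
    ring
  have h := classInner_irr_self η.2
  rw [classInner, Finset.sum_congr rfl fun h _ => hnorm h, Finset.sum_const, Finset.card_univ,
    ← Nat.card_eq_fintype_card, nsmul_eq_mul,
    inv_mul_cancel_left₀ (Nat.cast_ne_zero.2 Nat.card_pos.ne')] at h
  rw [← Chars17.cast_irrDegree] at h ⊢
  have h' : charDegree (η : H → ℂ) ^ 2 = 1 := by exact_mod_cast h
  rw [(Nat.pow_eq_one.1 h').resolve_right two_ne_zero, Nat.cast_one]

/-- The counting bound: a real character of an odd order commutative group with `ψ² - ψ ∘ sq`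
constant `T (T - 1)` is trivial. -/
theorem const_of_sq {H : Type*} [Group H] [Fintype H] (hcomm : ∀ g h : H, g * h = h * g)
    (hodd : Odd (Nat.card H)) {f : H → ℂ} (hf : IsCharacter H f)
    (hreal : ∀ h, conj (f h) = f h) {T : ℕ} (hT : f 1 = T) (hT3 : 3 ≤ T)
    (hrec : ∀ h, f (h * h) = f h ^ 2 - (T : ℂ) * ((T : ℂ) - 1)) (h : H) : f h = T := by
  classical
  choose m hm using fun η : IrrCharacter H => classInner_char_nat hf (irr_isCharacter η)
  have hexp : ∀ h, f h = ∑ η : IrrCharacter H, (m η : ℂ) * (η : H → ℂ) h := fun h => by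
    have e := congrFun (classFunction_eq_sum (isClassFunction_of_isCharacter hf)) h
    simp only [Finset.sum_apply, Pi.smul_apply, smul_eq_mul, hm] at e
    exact e
  have hTsum : T = ∑ η : IrrCharacter H, m η := by
    have e := hexp 1
    simp only [hT, irr_one_of_comm hcomm, mul_one] at e
    exact_mod_cast e
  have hinj : Function.Bijective fun h : H => h * h := by
    refine Finite.injective_iff_bijective.1 fun g g' hgg => ?_
    obtain ⟨k, hk⟩ := hodd
    have e : ∀ g : H, (g * g) ^ (k + 1) = g := fun g => by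
      rw [← sq, ← pow_mul, show 2 * (k + 1) = Nat.card H + 1 by omega, pow_succ, pow_card_eq_one',
        one_mul]
    rw [← e g, ← e g', show g * g = g' * g' from hgg]
  have hkey : classInner f f =
      classInner f ((principalIrr H : IrrCharacter H) : H → ℂ) + (T : ℂ) * ((T : ℂ) - 1) := by
    have h1 : ∀ g, f g * conj (f g) = f (g * g) + (T : ℂ) * ((T : ℂ) - 1) := fun g => by
      rw [hreal, hrec]; ring
    simp only [classInner, h1, principalIrr_apply, map_one, mul_one, Finset.sum_add_distrib,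
      Finset.sum_const, Finset.card_univ, ← Nat.card_eq_fintype_card, nsmul_eq_mul, mul_add]
    rw [inv_mul_cancel_left₀ (Nat.cast_ne_zero.2 Nat.card_pos.ne')]
    congr 2
    exact Fintype.sum_bijective _ hinj _ _ fun g => rfl
  have hff : classInner f f = ∑ η : IrrCharacter H, ((m η : ℂ)) ^ 2 := by
    have e : f = ∑ η : IrrCharacter H, (m η : ℂ) • (η : H → ℂ) := funext fun h => by
      simp [hexp]
    conv_lhs => arg 1; rw [e]
    rw [classInner_sum_left]
    refine Finset.sum_congr rfl fun η _ => ?_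
    rw [classInner_smul_left, classInner_conj_symm, hm, map_natCast, sq]
  set η0 := principalIrr H
  rw [hff, hm η0] at hkey
  have hkeyN : (∑ η : IrrCharacter H, (m η : ℤ) ^ 2) = (m η0 : ℤ) + (T : ℤ) * ((T : ℤ) - 1) := by
    exact_mod_cast hkey
  set r : ℤ := ∑ η ∈ Finset.univ.erase η0, (m η : ℤ)
  have hr : (T : ℤ) = (m η0 : ℤ) + r := by
    rw [hTsum, Nat.cast_sum, ← Finset.add_sum_erase _ _ (Finset.mem_univ η0)]
  have hhalf : ∀ η ∈ Finset.univ.erase η0, 2 * (m η : ℤ) ≤ r := by
    intro η hη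
    have hne := (Finset.mem_erase.1 hη).1
    let η' : IrrCharacter H :=
      ⟨fun h => conj ((η : H → ℂ) h), CfsgLib.BrauerPerm.isIrrCharacter_conj η.2⟩
    have hm' : m η' = m η := by
      have e : classInner f (η' : H → ℂ) = conj (classInner f (η : H → ℂ)) := by
        simp only [classInner, map_mul, map_inv₀, map_natCast, map_sum, hreal, η']
      rw [hm, hm, map_natCast] at e
      exact_mod_cast e
    have hne' : η' ≠ η := by
      intro e
      refine hne ?_
      obtain ⟨φ, hφ⟩ := LinearTwist.exists_hom_of_charDegree_one (irr_isCharacter η)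
        (LinearTwist.charDegree_eq_of_apply_one (n := 1) (by rw [irr_one_of_comm hcomm, Nat.cast_one]))
      refine Subtype.ext (funext fun g => ?_)
      have e1 : conj ((η : H → ℂ) g) = (η : H → ℂ) g := congrFun (congrArg Subtype.val e) g
      have hn : (η : H → ℂ) g * (η : H → ℂ) g = 1 := by
        conv_lhs => arg 2; rw [← e1]
        rw [Complex.mul_conj', norm_linear (irr_one_of_comm hcomm η)]
        norm_num
      obtain ⟨g', rfl⟩ := hinj.2 g
      rw [hφ] at hn ⊢
      simp only [map_mul, Units.val_mul] at hn ⊢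
      show _ = (1 : ℂ)
      have hpw : (φ g' : ℂ) ^ Nat.card H = 1 := by
        rw [← Units.val_pow_eq_pow_val, ← map_pow, pow_card_eq_one', map_one, Units.val_one]
      obtain ⟨k, hk⟩ := hodd
      have h4 : (φ g' : ℂ) ^ 4 = 1 := by linear_combination hn
      have hsq : (φ g' : ℂ) * φ g' = 1 := by
        rcases mul_self_eq_one_iff.1 hn with h5 | h5
        · exact h5
        · exfalso
          have h6 : ((φ g' : ℂ) ^ Nat.card H) ^ 2 = (-1) ^ Nat.card H := by
            rw [← pow_mul, mul_comm, pow_mul, sq, h5]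
          rw [hpw, one_pow, Odd.neg_one_pow ⟨k, hk⟩] at h6
          norm_num at h6
      exact hsq
    have hη'0 : η' ≠ η0 := by
      intro e
      refine hne (Subtype.ext (funext fun g => ?_))
      have e1 : conj ((η : H → ℂ) g) = (η0 : H → ℂ) g := congrFun (congrArg Subtype.val e) g
      simpa [η0, principalIrr_apply] using congrArg conj e1
    calc 2 * (m η : ℤ) = ∑ ζ ∈ ({η, η'} : Finset (IrrCharacter H)), (m ζ : ℤ) := by
          rw [Finset.sum_pair hne'.symm, hm']; ring
      _ ≤ r := Finset.sum_le_sum_of_subset_of_nonneg (fun ζ hζ => by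
          simp only [Finset.mem_insert, Finset.mem_singleton] at hζ
          rcases hζ with rfl | rfl
          · exact hη
          · exact Finset.mem_erase.2 ⟨hη'0, Finset.mem_univ _⟩) fun _ _ _ => Int.natCast_nonneg _
  have hsq2 : 2 * (∑ η ∈ Finset.univ.erase η0, (m η : ℤ) ^ 2) ≤ r * r := by
    rw [Finset.mul_sum, show r * r = ∑ η ∈ Finset.univ.erase η0, (m η : ℤ) * r from
      Finset.sum_mul (Finset.univ.erase η0) (fun η => (m η : ℤ)) r]
    exact Finset.sum_le_sum fun η hη => by nlinarith [hhalf η hη, Int.natCast_nonneg (m η)]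
  have hr0 : 0 ≤ r := Finset.sum_nonneg fun η _ => Int.natCast_nonneg _
  rw [← Finset.add_sum_erase _ _ (Finset.mem_univ η0)] at hkeyN
  have hTZ : (3 : ℤ) ≤ T := by exact_mod_cast hT3
  have hrzero : r = 0 := by
    by_contra hne
    have : 1 ≤ r := by omega
    nlinarith [Int.natCast_nonneg (m η0)]
  have hzero : ∀ η, η ≠ η0 → m η = 0 := fun η hη => by
    have := hhalf η (Finset.mem_erase.2 ⟨hη, Finset.mem_univ _⟩)
    omega
  rw [hexp, Finset.sum_eq_single η0 (fun η _ hη => by simp [hzero η hη])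
    (fun hh => absurd (Finset.mem_univ _) hh)]
  have : m η0 = T := by omega
  simp [η0, this, principalIrr_apply]

namespace Core

variable {ζ : IrrCharacter G} (K : Core p x a ζ)

include K

theorem norm_le (g : G) : ‖(ζ : G → ℂ) g‖ ≤ (p : ℝ) - 2 := by
  have h := norm_le_degree_of_isCharacter (irr_isCharacter ζ) g
  rw [← Chars17.cast_irrDegree, Complex.norm_natCast] at h
  have hd : (charDegree (ζ : G → ℂ) : ℝ) = (p : ℝ) - 2 := by
    rw [← K.hdeg]; push_cast; ring
  rwa [hd] at h

theorem value_one : (ζ : G → ℂ) 1 = (p : ℂ) - 2 := by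
  rw [← Chars17.cast_irrDegree, ← K.hdeg]; push_cast; ring

theorem eq_one_of_value {g : G} (h : (ζ : G → ℂ) g = (p : ℂ) - 2) : g = 1 :=
  K.hfaith g (by rw [h, K.value_one])

theorem regular_of_sq {g : G} (h : g * g = 1) : ¬ p ∣ orderOf g := fun hd => by
  have h2 : orderOf g ∣ 2 := orderOf_dvd_of_pow_eq_one (by rw [sq, h])
  have := Nat.le_of_dvd (by norm_num) (hd.trans h2)
  have := K.loc.five_lt
  omega

theorem value_involution {g : G} (h : g * g = 1) (hg : g ≠ 1) : (ζ : G → ℂ) g = -1 := by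
  have hr := K.sq_relation (K.regular_of_sq h)
  rw [h, K.value_one] at hr
  have hz : ((ζ : G → ℂ) g - ((p : ℂ) - 2)) * ((ζ : G → ℂ) g + 1) = 0 := by
    linear_combination -hr
  rcases mul_eq_zero.1 hz with h1 | h1
  · exact absurd (K.eq_one_of_value (sub_eq_zero.1 h1)) hg
  · exact eq_neg_of_add_eq_zero_left h1

theorem no_order_four {g : G} (h4 : g * g * (g * g) = 1) : g * g = 1 := by
  by_contra h2
  have hreg : ¬ p ∣ orderOf g := fun hd => by
    have h4' : orderOf g ∣ 4 :=
      orderOf_dvd_of_pow_eq_one (by rw [← h4]; simp [pow_succ, mul_assoc])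
    have := Nat.le_of_dvd (by norm_num) (hd.trans h4')
    have := K.loc.five_lt
    omega
  have hr := K.sq_relation hreg
  rw [K.value_involution h4 h2] at hr
  obtain ⟨n, ρ, -, hρ⟩ := ζ.2
  obtain ⟨ω, hω4, -, hsum⟩ := exists_eigenvalues ρ g
  have h4' : orderOf g ∣ 4 :=
    orderOf_dvd_of_pow_eq_one (by rw [← h4]; simp [pow_succ, mul_assoc])
  obtain ⟨z, hz⟩ : ∃ z : ℤ, ((ζ : G → ℂ) g).re = z := by
    have hre : ∀ i, ∃ z : ℤ, (ω i).re = z := by
      intro i
      have h1 : (ω i * ω i) * (ω i * ω i) = 1 := by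
        obtain ⟨c, hc⟩ := h4'
        have : ω i ^ 4 = 1 := by rw [hc, pow_mul, hω4 i, one_pow]
        rw [← this]; ring
      rcases mul_self_eq_one_iff.1 h1 with h2' | h2'
      · rcases mul_self_eq_one_iff.1 h2' with h3 | h3
        · exact ⟨1, by rw [h3]; simp⟩
        · exact ⟨-1, by rw [h3]; simp⟩
      · have h3 : ω i = Complex.I ∨ ω i = -Complex.I :=
          mul_self_eq_mul_self_iff.1 (by rw [h2', Complex.I_mul_I])
        rcases h3 with h3 | h3 <;> exact ⟨0, by rw [h3]; simp⟩
    choose zz hzz using hre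
    refine ⟨∑ i, zz i, ?_⟩
    rw [← hρ, hsum, Complex.re_sum]
    push_cast
    exact Finset.sum_congr rfl fun i _ => hzz i
  have him : ((ζ : G → ℂ) g).im = 0 := Complex.conj_eq_iff_im.1 (K.real g)
  have hζz : (ζ : G → ℂ) g = (z : ℂ) := Complex.ext (by simp [hz]) (by simp [him])
  rw [hζz] at hr
  have h5 : (-1 : ℤ) = z ^ 2 - ((p : ℤ) - 3) * z := by exact_mod_cast hr
  have h6 : z * (((p : ℤ) - 3) - z) = 1 := by linear_combination h5
  have := K.seven_le
  rcases Int.eq_one_or_neg_one_of_mul_eq_one' h6 with ⟨h7, h8⟩ | ⟨h7, h8⟩ <;> omega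

/-- Elements of odd order centralising an involution are trivial. -/
theorem odd_centralizer {t g : G} (ht : t * t = 1) (ht1 : t ≠ 1) (hgt : Commute g t)
    (hodd : Odd (orderOf g)) (hp' : ¬ p ∣ orderOf g) : g = 1 := by
  classical
  have hp7 := K.seven_le
  have hp2 : p % 2 = 1 := Nat.odd_iff.1 (hp.out.odd_of_ne_two (by omega))
  set A : ℕ := (p - 3) / 2
  have hA : 2 * A = p - 3 := by omega
  have hAC : (2 : ℂ) * A = (p : ℂ) - 3 := by
    have : ((2 * A : ℕ) : ℂ) = ((p - 3 : ℕ) : ℂ) := by rw [hA]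
    push_cast [Nat.cast_sub (by omega : 3 ≤ p)] at this
    exact this
  have htv := K.value_involution ht ht1
  -- the facts for a single element
  have hfacts : ∀ h : G, Commute h t → Odd (orderOf h) → ¬ p ∣ orderOf h →
      ¬ p ∣ orderOf (h * t) ∧ h * t * (h * t) = h * h ∧
      ((ζ : G → ℂ) (h * t) = (ζ : G → ℂ) h ∨
        (ζ : G → ℂ) h + (ζ : G → ℂ) (h * t) = (p : ℂ) - 3) := by
    intro h hc ho hpn
    have hreg : ¬ p ∣ orderOf (h * t) := fun hd => by
      have := (hd.trans hc.orderOf_mul_dvd_lcm).trans (Nat.lcm_dvd_mul _ _)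
      rcases hp.out.dvd_mul.1 this with h1 | h1
      · exact hpn h1
      · exact K.regular_of_sq ht h1
    have hsq : h * t * (h * t) = h * h := by
      rw [mul_assoc, ← mul_assoc t, ← hc.eq, mul_assoc, ht, mul_one]
    refine ⟨hreg, hsq, ?_⟩
    have h1 := K.sq_relation hreg
    have h2 := K.sq_relation hpn
    rw [hsq, h2] at h1
    have : ((ζ : G → ℂ) h - (ζ : G → ℂ) (h * t)) *
        ((ζ : G → ℂ) h + (ζ : G → ℂ) (h * t) - ((p : ℂ) - 3)) = 0 := by linear_combination h1
    rcases mul_eq_zero.1 this with h3 | h3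
    · exact Or.inl (sub_eq_zero.1 h3).symm
    · exact Or.inr (sub_eq_zero.1 h3)
  have hpowers : ∀ h : G, Commute h t → Odd (orderOf h) → ¬ p ∣ orderOf h →
      ∀ y ∈ Subgroup.zpowers h, Commute y t ∧ Odd (orderOf y) ∧ ¬ p ∣ orderOf y := by
    intro h hc ho hpn y hy
    obtain ⟨k, rfl⟩ := Subgroup.mem_zpowers_iff.1 hy
    have hd : orderOf (h ^ k) ∣ orderOf h := orderOf_dvd_of_mem_zpowers hy
    exact ⟨hc.zpow_left k, ho.of_dvd_nat hd, fun h' => hpn (h'.trans hd)⟩
  have hparts : ∀ h : G, Commute h t → Odd (orderOf h) → ¬ p ∣ orderOf h →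
      ∃ fp fm : Subgroup.zpowers h → ℂ, IsCharacter _ fp ∧ IsCharacter _ fm ∧
        (∀ y, fp y = ((ζ : G → ℂ) y + (ζ : G → ℂ) ((y : G) * t)) / 2) ∧
        (∀ y, fm y = ((ζ : G → ℂ) y - (ζ : G → ℂ) ((y : G) * t)) / 2) ∧
        fp 1 = (A : ℂ) ∧ fm 1 = ((A + 1 : ℕ) : ℂ) := by
    intro h hc ho hpn
    have hH : ∀ y ∈ Subgroup.zpowers h, Commute y t := fun y hy => (hpowers h hc ho hpn y hy).1
    obtain ⟨fp, hfp, hfp'⟩ := exists_eigen_part (irr_isCharacter ζ) ht 1 (Or.inl rfl) _ hH
    obtain ⟨fm, hfm, hfm'⟩ := exists_eigen_part (irr_isCharacter ζ) ht (-1) (Or.inr rfl) _ hH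
    refine ⟨fp, fm, hfp, hfm, fun y => by rw [hfp', one_mul], fun y => by rw [hfm']; ring, ?_, ?_⟩
    · rw [hfp', OneMemClass.coe_one, one_mul, one_mul, K.value_one, htv]
      linear_combination (-1 / 2 : ℂ) * hAC
    · rw [hfm', OneMemClass.coe_one, one_mul, K.value_one, htv]
      push_cast
      linear_combination (-1 / 2 : ℂ) * hAC
  -- the two eigenspaces carry the same trace
  have hsame : ∀ h : G, Commute h t → Odd (orderOf h) → ¬ p ∣ orderOf h → h ≠ 1 →
      (ζ : G → ℂ) (h * t) = (ζ : G → ℂ) h := by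
    intro h hc ho hpn hh1
    rcases (hfacts h hc ho hpn).2.2 with e | e
    · exact e
    exfalso
    obtain ⟨fp, fm, hfp, hfm, hfp', hfm', hfp1, hfm1⟩ := hparts h hc ho hpn
    haveI := Fintype.ofFinite (Subgroup.zpowers h)
    have hker : ∀ y : Subgroup.zpowers h, fp y = (A : ℂ) := by
      obtain ⟨n, ρ, rfl⟩ := id hfp
      have hfin : (n : ℂ) = (A : ℂ) := by
        rw [← hfp1, Representation.char_one, Module.finrank_fin_fun]
      have hid : ρ ⟨h, Subgroup.mem_zpowers h⟩ = LinearMap.id := (char_eq_degree_iff ρ _).1 (by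
        rw [hfp', e, Module.finrank_fin_fun, hfin]
        linear_combination (-1 / 2 : ℂ) * hAC)
      intro y
      obtain ⟨k, hk⟩ := mem_powers_iff_mem_zpowers.2 y.2
      have hy : y = (⟨h, Subgroup.mem_zpowers h⟩ : Subgroup.zpowers h) ^ k := Subtype.ext hk.symm
      have h3 := (char_eq_degree_iff ρ y).2 (by rw [hy, map_pow, hid]; exact one_pow k)
      rw [Module.finrank_fin_fun, hfin] at h3
      exact h3
    have hcH : ∀ g g' : Subgroup.zpowers h, g * g' = g' * g := fun g g' =>
      by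
      obtain ⟨k, hk⟩ := Subgroup.mem_zpowers_iff.1 g.2
      obtain ⟨l, hl⟩ := Subgroup.mem_zpowers_iff.1 g'.2
      exact Subtype.ext (by rw [Subgroup.coe_mul, Subgroup.coe_mul, ← hk, ← hl, (Commute.zpow_zpow_self h k l).eq])
    have hB : ∀ y : Subgroup.zpowers h, (ζ : G → ℂ) (y : G) = fm y + A := by
      intro y
      have h1 := hfp' y
      rw [hker] at h1
      rw [hfm']
      linear_combination -h1
    have hconst := const_of_sq hcH (by rw [Nat.card_zpowers]; exact ho) hfm
      (fun y => by rw [hfm', map_div₀, map_sub, K.real, K.real, map_ofNat]) hfm1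
      (by omega) (fun y => by
        obtain ⟨-, -, hyp⟩ := hpowers h hc ho hpn y y.2
        have h1 := K.sq_relation hyp
        rw [← Subgroup.coe_mul, hB, hB] at h1
        push_cast
        linear_combination h1 + (fm y + (A : ℂ)) * hAC) ⟨h, Subgroup.mem_zpowers h⟩
    refine hh1 (K.eq_one_of_value ?_)
    have h2 := hB ⟨h, Subgroup.mem_zpowers h⟩
    rw [hconst] at h2
    push_cast at h2
    rw [h2]
    linear_combination hAC
  -- both vanish
  by_contra hg1
  obtain ⟨fp, fm, hfp, hfm, hfp', hfm', hfp1, hfm1⟩ := hparts g hgt hodd hp'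
  haveI := Fintype.ofFinite (Subgroup.zpowers g)
  have hne : (Finset.univ.erase (1 : (Subgroup.zpowers g))).Nonempty :=
    ⟨⟨g, Subgroup.mem_zpowers g⟩, Finset.mem_erase.2
      ⟨fun h => hg1 (congrArg Subtype.val h), Finset.mem_univ _⟩⟩
  have hval : ∀ y : (Subgroup.zpowers g), y ≠ 1 → fp y = (ζ : G → ℂ) y ∧ fm y = 0 := by
    intro y hy
    obtain ⟨hc, ho, hpn⟩ := hpowers g hgt hodd hp' y y.2
    have e := hsame y hc ho hpn fun h => hy (Subtype.ext h)
    refine ⟨?_, ?_⟩
    · rw [hfp', e]; ring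
    · rw [hfm', e]; ring
  obtain ⟨y0, hy0, hmax⟩ := (Finset.univ.erase (1 : (Subgroup.zpowers g))).exists_max_image
    (fun y : (Subgroup.zpowers g) => ‖(ζ : G → ℂ) y‖) hne
  have hy01 := (Finset.mem_erase.1 hy0).1
  have hzero : ∀ y : (Subgroup.zpowers g), y ≠ 1 → (ζ : G → ℂ) y = 0 := by
    have hle : ∀ y : (Subgroup.zpowers g), y ≠ 1 → ‖(ζ : G → ℂ) y‖ ≤ A := by
      intro y hy
      rw [← (hval y hy).1]
      have h := norm_le_degree_of_isCharacter hfp y
      rwa [hfp1, Complex.norm_natCast] at h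
    obtain ⟨hc, ho, hpn⟩ := hpowers g hgt hodd hp' y0 y0.2
    have hne2 : y0 * y0 ≠ 1 := fun h => hy01 (Subtype.ext (by
      have h' : (y0 : G) ^ 2 = 1 := by rw [sq]; exact congrArg Subtype.val h
      rcases (Nat.dvd_prime Nat.prime_two).1 (orderOf_dvd_of_pow_eq_one h') with h2 | h2
      · exact orderOf_eq_one_iff.1 h2
      · rw [h2] at ho; exact absurd ho (by decide)))
    have h1 := hmax (y0 * y0) (Finset.mem_erase.2 ⟨hne2, Finset.mem_univ _⟩)
    rw [Subgroup.coe_mul, K.sq_relation hpn] at h1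
    set z := (ζ : G → ℂ) (y0 : G)
    have h2 : z ^ 2 - ((p : ℂ) - 3) * z = z * (z - (2 : ℂ) * A) := by rw [hAC]; ring
    rw [h2, norm_mul] at h1
    have h3 : (A : ℝ) ≤ ‖z - (2 : ℂ) * A‖ := by
      rw [norm_sub_rev]
      refine le_trans ?_ (norm_sub_norm_le _ _)
      rw [show (2 : ℂ) * A = ((2 * A : ℕ) : ℂ) by push_cast; ring, Complex.norm_natCast]
      have := hle y0 hy01
      push_cast
      linarith
    have hA2 : (2 : ℝ) ≤ A := by exact_mod_cast (by omega : 2 ≤ A)
    have h4 : ‖z‖ = 0 := by nlinarith [norm_nonneg z]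
    intro y hy
    have := hmax y (Finset.mem_erase.2 ⟨hy, Finset.mem_univ _⟩)
    rw [h4] at this
    exact norm_le_zero_iff.1 this
  have key : ∀ (f : (Subgroup.zpowers g) → ℂ) (c : ℕ), IsCharacter (Subgroup.zpowers g) f → (∀ y, y ≠ 1 → f y = 0) → f 1 = (c : ℂ) →
      Nat.card (Subgroup.zpowers g) ∣ c := by
    intro f c hf h0 h1
    obtain ⟨m, hm⟩ := classInner_char_nat hf (irr_isCharacter (principalIrr (Subgroup.zpowers g)))
    rw [classInner, Finset.sum_eq_single (1 : (Subgroup.zpowers g)) (fun y _ hy => by rw [h0 y hy, zero_mul])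
      (fun h => absurd (Finset.mem_univ _) h), h1, principalIrr_apply, map_one, mul_one,
      inv_mul_eq_iff_eq_mul₀ (Nat.cast_ne_zero.2 Nat.card_pos.ne')] at hm
    exact ⟨m, by exact_mod_cast hm⟩
  have k1 := key fp A hfp (fun y hy => by rw [(hval y hy).1, hzero y hy]) hfp1
  have k2 := key fm (A + 1) hfm (fun y hy => (hval y hy).2) hfm1
  have : Nat.card (Subgroup.zpowers g) = 1 := Nat.dvd_one.1 ((Nat.dvd_add_right k1).1 k2)
  rw [Nat.card_zpowers] at this
  exact hg1 (orderOf_eq_one_iff.1 this)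

theorem a_sq : a * a = 1 := Subgroup.mem_bot.1 (K.hZ ▸ K.loc.sq_mem_center)

theorem a_ne_one : a ≠ 1 := fun h => K.loc.not_central (h ▸ Commute.one_left x)

theorem not_dvd_centralizer : ¬ p ∣ Nat.card (Subgroup.centralizer ({a} : Set G)) := by
  intro hd
  have h := K.card_eq
  have hp7 := K.seven_le
  refine K.loc.data.hsq ?_
  have h1 : p ^ 2 ∣ Nat.card G * (p - 1) := by
    rw [h]
    exact ((pow_dvd_pow_of_dvd hd 2).trans (dvd_mul_left _ _))
  refine (Nat.Coprime.dvd_of_dvd_mul_right ?_ h1)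
  refine Nat.Coprime.pow_left 2 (hp.out.coprime_iff_not_dvd.2 fun hd' => ?_)
  have := Nat.le_of_dvd (by omega) hd'
  omega

theorem exponent_two {c : G} (hc : Commute c a) (hpc : ¬ p ∣ orderOf c) : c * c = 1 := by
  obtain ⟨v, m, hm, hvm⟩ := Nat.exists_eq_pow_mul_and_not_dvd (orderOf_pos c).ne' 2 (by norm_num)
  have hcm : orderOf (c ^ (2 ^ v)) = m := by
    rw [orderOf_pow_of_dvd (pow_ne_zero _ two_ne_zero) (hvm ▸ dvd_mul_right _ _), hvm,
      Nat.mul_div_cancel_left _ (pow_pos (by norm_num) v)]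
  have h1 : c ^ (2 ^ v) = 1 := K.odd_centralizer K.a_sq K.a_ne_one (hc.pow_left _)
    (by rw [hcm]; exact Nat.odd_iff.2 (by omega))
    (fun h => hpc (h.trans (hcm ▸ hvm ▸ dvd_mul_left m (2 ^ v))))
  have key : ∀ j : ℕ, ∀ d : G, d ^ (2 ^ j) = 1 → d * d = 1 := by
    intro j
    induction j with
    | zero => intro d hd; rw [pow_zero, pow_one] at hd; rw [hd, one_mul]
    | succ j ih =>
      intro d hd
      have h2 := ih (d * d) (by rw [← sq, ← pow_mul, mul_comm, ← pow_succ]; exact hd)
      exact K.no_order_four h2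
  exact key v c h1

/-- The order of the group. -/
theorem group_order : ∃ k : ℕ, p = 2 ^ k + 1 ∧ Nat.card G = p * (p - 1) * (p - 2) := by
  classical
  have hp7 := K.seven_le
  have hp2 : p % 2 = 1 := Nat.odd_iff.1 (hp.out.odd_of_ne_two (by omega))
  set C := Subgroup.centralizer ({a} : Set G)
  have hCexp : ∀ c ∈ C, c * c = 1 := fun c hc => K.exponent_two
    (show Commute c a from Subgroup.mem_centralizer_singleton_iff.1 hc)
    fun h => K.not_dvd_centralizer (h.trans (Subgroup.orderOf_dvd_natCard C hc))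
  have hC2 : IsPGroup 2 C := fun c => ⟨1, Subtype.ext (by
    rw [pow_one, SubmonoidClass.coe_pow, OneMemClass.coe_one, sq]
    exact hCexp c c.2)⟩
  obtain ⟨S, hS⟩ := hC2.exists_le_sylow
  have haC : a ∈ C := Subgroup.mem_centralizer_singleton_iff.2 rfl
  have hSexp : ∀ s ∈ (S : Subgroup G), s * s = 1 := by
    intro s hs
    obtain ⟨j, hj⟩ := S.isPGroup' ⟨s, hs⟩
    have hj' : s ^ (2 ^ j) = 1 := congrArg Subtype.val hj
    have key : ∀ j : ℕ, ∀ d : G, d ^ (2 ^ j) = 1 → d * d = 1 := by
      intro j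
      induction j with
      | zero => intro d hd; rw [pow_zero, pow_one] at hd; rw [hd, one_mul]
      | succ j ih =>
        intro d hd
        have h2 := ih (d * d) (by rw [← sq, ← pow_mul, mul_comm, ← pow_succ]; exact hd)
        exact K.no_order_four h2
    exact key j s hj'
  have hSC : (S : Subgroup G) = C := by
    refine le_antisymm (fun s hs => ?_) hS
    rw [Subgroup.mem_centralizer_singleton_iff]
    have hi : ∀ u ∈ (S : Subgroup G), u⁻¹ = u := fun u hu => inv_eq_of_mul_eq_one_right (hSexp u hu)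
    calc s * a = (s * a)⁻¹ := (hi _ (mul_mem hs (hS haC))).symm
      _ = a * s := by rw [mul_inv_rev, hi s hs, hi a (hS haC)]
  obtain ⟨k, hk⟩ := IsPGroup.iff_card.1 hC2
  obtain ⟨g, hg⟩ : 2 ^ k ∣ Nat.card G := hk ▸ Subgroup.card_subgroup_dvd_card C
  have hgodd : ¬ 2 ∣ g := by
    intro h2
    have h1 := S.card_eq_multiplicity
    rw [show Nat.card (S : Subgroup G) = 2 ^ k by rw [hSC, hk]] at h1
    have h3 := Nat.pow_right_injective le_rfl h1
    have h4 : 2 ^ (k + 1) ∣ Nat.card G := by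
      rw [hg, pow_succ]; exact mul_dvd_mul_left _ h2
    have h5 := (Nat.prime_two.pow_dvd_iff_le_factorization Nat.card_pos.ne').1 h4
    omega
  have h := K.card_eq
  rw [hk, hg] at h
  obtain ⟨v, m, hm, hvm⟩ := Nat.exists_eq_pow_mul_and_not_dvd (show p - 1 ≠ 0 by omega) 2 (by norm_num)
  have hpp : ¬ 2 ∣ p * (p - 2) := by
    intro h2
    rcases Nat.prime_two.dvd_mul.1 h2 with h3 | h3 <;> omega
  have h' : 2 ^ (k + v) * (g * m) = 2 ^ (2 * k) * (p * (p - 2)) := by
    rw [pow_add, pow_mul', show 2 ^ k * 2 ^ v * (g * m) = 2 ^ k * g * (2 ^ v * m) by ring, ← hvm, h]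
    ring
  have hv : v = k := by
    have e := congrArg (fun n => n.factorization 2) h'
    have hg0 : g ≠ 0 := fun h0 => hgodd (h0 ▸ dvd_zero 2)
    have hm0 : m ≠ 0 := fun h0 => hm (h0 ▸ dvd_zero 2)
    have hpp0 : p * (p - 2) ≠ 0 := fun h0 => hpp (h0 ▸ dvd_zero 2)
    simp only [Nat.factorization_mul (pow_ne_zero _ two_ne_zero) (mul_ne_zero hg0 hm0),
      Nat.factorization_mul (pow_ne_zero _ two_ne_zero) hpp0, Nat.factorization_mul hg0 hm0,
      Nat.factorization_pow, Finsupp.add_apply, Finsupp.smul_apply,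
      Nat.prime_two.factorization_self, smul_eq_mul, mul_one,
      Nat.factorization_eq_zero_of_not_dvd hgodd, Nat.factorization_eq_zero_of_not_dvd hm,
      Nat.factorization_eq_zero_of_not_dvd hpp] at e
    omega
  rw [hv] at hvm
  rw [hv, show k + k = 2 * k by ring] at h'
  have hgm : g * m = p * (p - 2) := Nat.eq_of_mul_eq_mul_left (pow_pos (by norm_num) _) h'
  have hm1 : m = 1 := by
    have h1 : m ∣ p - 1 := ⟨2 ^ k, by rw [hvm]; ring⟩
    have h2 : m ∣ p * (p - 2) := ⟨g, by rw [← hgm]; ring⟩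
    have hcop : Nat.Coprime (p - 1) (p * (p - 2)) := by
      refine Nat.Coprime.mul_right (Nat.Coprime.symm ?_) ?_
      · exact hp.out.coprime_iff_not_dvd.2 fun hd => by have := Nat.le_of_dvd (by omega) hd; omega
      · rw [show p - 1 = p - 2 + 1 by omega]
        exact (Nat.coprime_self_add_left (m := p - 2) (n := 1)).2 (Nat.coprime_one_left _)
    exact Nat.dvd_one.1 (hcop ▸ Nat.dvd_gcd h1 h2)
  rw [hm1, mul_one] at hvm hgm
  exact ⟨k, by omega, by rw [hg, hgm, hvm]; ring⟩

end Core

end CfsgLib.PSubTwo
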