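import Cfsg.Agent.Lib.PSubTwo.Fam
import Cfsg.Agent.Lib.BSW.ClassSum

/-!
# Groups with a faithful character of degree `p - 2`: values at the inverting element and pairs
-/

set_option autoImplicit false
set_option linter.unusedSectionVars false
set_option linter.style.haveILetI false

noncomputable section

namespace CfsgLib.PSubTwo

open Cfsg CfsgLib.Characters CfsgLib.PrimeDefect CfsgLib.SelfCentralPrime
open scoped ComplexConjugate

universe u

variable {G : Type u} [Group G] [Fintype G] {p : ℕ} [hp : Fact p.Prime] {x a : G}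

namespace Loc

variable (L : Loc p x a)

include L

theorem conj_pw (i : ZMod p) : a * pw x i * a⁻¹ = pw x (-i) := by
  rw [L.data.pw_neg, pw, ← conj_pow, L.inv, inv_pow]

theorem mul_pw (i : ZMod p) : pw x i * a = a * pw x (-i) := by
  have h := L.conj_pw (-i)
  rw [neg_neg] at h
  rw [← h, inv_mul_cancel_right]

theorem isConj_mul_pw (i : ZMod p) : IsConj a (a * pw x i) := by
  obtain ⟨j, hj⟩ : ∃ j : ZMod p, -(2 * j) = i := by
    have h2 : (2 : ZMod p) ≠ 0 := fun h => by
      have h' : ((2 : ℕ) : ZMod p) = 0 := by exact_mod_cast h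
      have := Nat.le_of_dvd (by norm_num) ((ZMod.natCast_eq_zero_iff 2 p).1 h')
      have := L.five_lt
      omega
    exact ⟨-i / 2, by rw [mul_div_cancel₀ _ h2, neg_neg]⟩
  refine isConj_iff.2 ⟨pw x j, ?_⟩
  rw [L.mul_pw, mul_assoc, ← L.data.pw_neg, ← L.data.pw_add, ← hj]
  congr 2
  ring

theorem value_mul_pw (χ : IrrCharacter G) (i : ZMod p) :
    (χ : G → ℂ) (a * pw x i) = (χ : G → ℂ) a :=
  (classFunction_eq_of_isConj (irr_isClassFunction χ) (L.isConj_mul_pw i)).symm

/-- The value at the inverting element comes from the fixed space of `x`. -/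
theorem exists_fix_rep (χ : IrrCharacter G) :
    ∃ (W : Type) (_ : AddCommGroup W) (_ : Module ℂ W) (_ : FiniteDimensional ℂ W)
      (R : Representation ℂ (Subgroup.zpowers a) W),
      Module.finrank ℂ W = L.xm χ 0 ∧
      R.character ⟨a, Subgroup.mem_zpowers a⟩ = (χ : G → ℂ) a := by
  obtain ⟨n, ρ, -, hρ⟩ := χ.2
  have hp0 : (p : ℂ) ≠ 0 := Nat.cast_ne_zero.2 hp.out.ne_zero
  set π : Module.End ℂ (Fin n → ℂ) := (p : ℂ)⁻¹ • ∑ i : ZMod p, ρ (pw x i) with hπ
  have hshift : ∀ j : ZMod p, ρ (pw x j) * π = π := by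
    intro j
    rw [hπ, mul_smul_comm, Finset.mul_sum]
    congr 1
    simp only [← map_mul, ← L.data.pw_add]
    exact Fintype.sum_equiv (Equiv.addLeft j) _ _ fun i => rfl
  have hidem : π * π = π := by
    conv_lhs => arg 1; rw [hπ]
    rw [smul_mul_assoc, Finset.sum_mul, Finset.sum_congr rfl (fun i _ => hshift i), Finset.sum_const,
      Finset.card_univ, ZMod.card, ← Nat.cast_smul_eq_nsmul ℂ, smul_smul, inv_mul_cancel₀ hp0,
      one_smul]
  have hcomm : Commute (ρ a) π := by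
    rw [hπ]
    refine Commute.smul_right ?_ _
    show ρ a * _ = _ * ρ a
    rw [Finset.mul_sum, Finset.sum_mul]
    refine Fintype.sum_equiv (Equiv.neg (ZMod p)) _ _ fun i => ?_
    rw [← map_mul, ← map_mul, Equiv.neg_apply, L.mul_pw, neg_neg]
  let W : Submodule ℂ (Fin n → ℂ) := LinearMap.range π
  have hπW : ∀ w ∈ W, π w = w := by
    rintro _ ⟨v, rfl⟩
    exact LinearMap.congr_fun hidem v
  have hcg : ∀ g ∈ Subgroup.zpowers a, Commute (ρ g) π := by
    intro g hg
    obtain ⟨k, rfl⟩ := mem_powers_iff_mem_zpowers.2 hg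
    show Commute (ρ (a ^ k)) π
    rw [map_pow]
    exact hcomm.pow_left k
  have hinv : ∀ g ∈ Subgroup.zpowers a, ∀ w ∈ W, ρ g w ∈ W := fun g hg w hw =>
    ⟨ρ g w, by rw [← Module.End.mul_apply, ← (hcg g hg).eq, Module.End.mul_apply, hπW w hw]⟩
  let R : Representation ℂ (Subgroup.zpowers a) W :=
    { toFun := fun g => (ρ (g : G)).restrict (hinv g g.2)
      map_one' := by ext w; simp
      map_mul' := fun g h => by ext w; simp }
  refine ⟨W, inferInstance, inferInstance, inferInstance, R, ?_, ?_⟩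
  · have hmem : ∀ v, π v ∈ W := fun v => ⟨v, rfl⟩
    have h1 := LinearMap.trace_restrict_eq_of_forall_mem W π hmem
    have h2 : π.restrict (p := W) (q := W) (fun v _ => hmem v) = LinearMap.id :=
      LinearMap.ext fun w => Subtype.ext (hπW w w.2)
    rw [h2, LinearMap.trace_id] at h1
    have h3 : (p : ℂ) * (L.xm χ 0 : ℂ) = (p : ℂ) * (Module.finrank ℂ W : ℂ) := by
      rw [L.xm_zero_eq, h1, hπ, map_smul, map_sum, smul_eq_mul, ← mul_assoc, mul_inv_cancel₀ hp0,
        one_mul, ← hρ]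
      rfl
    exact_mod_cast (mul_left_cancel₀ hp0 h3).symm
  · have hmem : ∀ v, (ρ a * π) v ∈ W := fun v => hinv a (Subgroup.mem_zpowers a) _ ⟨v, rfl⟩
    have h1 := LinearMap.trace_restrict_eq_of_forall_mem W (ρ a * π) hmem
    have h2 : (ρ a * π).restrict (p := W) (q := W) (fun v _ => hmem v) =
        R ⟨a, Subgroup.mem_zpowers a⟩ :=
      LinearMap.ext fun w => Subtype.ext (congrArg (ρ a) (hπW w w.2))
    rw [h2] at h1
    rw [Representation.character, h1, hπ, mul_smul_comm, Finset.mul_sum, map_smul, map_sum]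
    simp only [← map_mul]
    show (p : ℂ)⁻¹ • ∑ i : ZMod p, ρ.character (a * pw x i) = _
    rw [hρ, Finset.sum_congr rfl (fun i _ => L.value_mul_pw χ i), Finset.sum_const,
      Finset.card_univ, ZMod.card, nsmul_eq_mul, smul_eq_mul, inv_mul_cancel_left₀ hp0]

theorem norm_value_le (χ : IrrCharacter G) : ‖(χ : G → ℂ) a‖ ≤ L.xm χ 0 := by
  obtain ⟨W, _, _, _, R, hR, hRa⟩ := L.exists_fix_rep χ
  rw [← hRa, ← hR]
  exact norm_char_le R _

theorem norm_value_eq_one {χ : IrrCharacter G} (h : L.xm χ 0 = 1) : ‖(χ : G → ℂ) a‖ = 1 := by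
  obtain ⟨W, _, _, _, R, hR, hRa⟩ := L.exists_fix_rep χ
  obtain ⟨ω, -, hω, hsum⟩ := exists_eigenvalues R ⟨a, Subgroup.mem_zpowers a⟩
  rw [← hRa, hsum]
  have h1 : Module.finrank ℂ W = 1 := hR.trans h
  have : Unique (Fin (Module.finrank ℂ W)) := by rw [h1]; infer_instance
  rw [Fintype.sum_unique]
  exact hω _

theorem sq_mem_center : a * a ∈ Subgroup.center G := by
  have hcomm : Commute (a * a) x := by
    have h : a * a * x * (a * a)⁻¹ = x := by
      rw [show a * a * x * (a * a)⁻¹ = a * (a * x * a⁻¹) * a⁻¹ by group, L.inv,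
        show a * x⁻¹ * a⁻¹ = (a * x * a⁻¹)⁻¹ by group, L.inv, inv_inv]
    exact mul_inv_eq_iff_eq_mul.1 h
  haveI := Fintype.ofFinite (Subgroup.centralizer ({x} : Set G))
  obtain ⟨i, hi⟩ := L.data.exists_decomp (L.data.mem_C_iff.2 hcomm)
  set v := (pw x i)⁻¹ * (a * a)
  have haa : pw x i * v = a * a := mul_inv_cancel_left _ _
  have hfix : a * (a * a) * a⁻¹ = a * a := by group
  rw [← haa, ← mul_assoc a, mul_assoc (a * pw x i), ← Subgroup.mem_center_iff.1 hi a⁻¹,
    ← mul_assoc, L.conj_pw] at hfix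
  have hi0 : i = 0 := by
    have h := L.data.pw_inj (mul_right_cancel hfix)
    by_contra hne
    have h2 : ((2 : ℕ) : ZMod p) * i = 0 := by push_cast; linear_combination -h
    rcases mul_eq_zero.1 h2 with h3 | h3
    · have := Nat.le_of_dvd (by norm_num) ((ZMod.natCast_eq_zero_iff 2 p).1 h3)
      have := L.five_lt
      omega
    · exact hne h3
  rw [← haa, hi0, L.data.pw_zero, one_mul]
  exact hi

theorem center_pow_eq_one {w : G} (hw : w ∈ Subgroup.center G) (h : w ^ p = 1) : w = 1 := by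
  rcases (Nat.dvd_prime hp.out).1 (orderOf_dvd_of_pow_eq_one h) with h1 | h1
  · exact orderOf_eq_one_iff.1 h1
  · exact absurd (dvd_of_eq h1.symm) (L.data.regular hw)

theorem regular_a : ¬ p ∣ orderOf a := fun h => by
  refine L.data.regular L.sq_mem_center ?_
  rw [← sq, orderOf_pow]
  have h2 := Nat.gcd_dvd_right (orderOf a) 2
  obtain ⟨c, hc⟩ := Nat.gcd_dvd_left (orderOf a) 2
  have hg : 0 < Nat.gcd (orderOf a) 2 := Nat.gcd_pos_of_pos_right _ (by norm_num)
  set g0 := Nat.gcd (orderOf a) 2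
  rw [hc] at h
  rw [hc, Nat.mul_div_cancel_left _ hg]
  rcases hp.out.dvd_mul.1 h with h3 | h3
  · have := Nat.le_of_dvd (by norm_num) (h3.trans h2)
    have := L.five_lt
    omega
  · exact h3

open scoped Classical in
/-- The number of pairs of conjugates of `a` with a given product. -/
def pairCount (_ : Loc p x a) (y : G) : ℕ :=
  ((Finset.univ ×ˢ Finset.univ).filter fun bc : G × G =>
    IsConj a bc.1 ∧ IsConj a bc.2 ∧ bc.1 * bc.2 = y).card

open scoped Classical in
theorem sum_pairs (y : G) :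
    ((Nat.card {b : G // IsConj a b} : ℂ)) ^ 2 *
      ∑ χ : IrrCharacter G, conj ((χ : G → ℂ) y) * ((χ : G → ℂ) a ^ 2 / (χ : G → ℂ) 1) =
      (Nat.card G : ℂ) * (L.pairCount y : ℂ) := by
  haveI := Fintype.ofFinite (Subgroup.centralizer ({x} : Set G))
  haveI := Fintype.ofFinite (Subgroup.center G)
  rw [Finset.mul_sum]
  set T := Finset.univ.filter (fun b : G => IsConj a b)
  have h1 : ∀ χ : IrrCharacter G, (Nat.card {b : G // IsConj a b} : ℂ) ^ 2 *
      (conj ((χ : G → ℂ) y) * ((χ : G → ℂ) a ^ 2 / (χ : G → ℂ) 1)) =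
      ∑ b ∈ T, ∑ c ∈ T, (χ : G → ℂ) (b * c) * conj ((χ : G → ℂ) y) := by
    intro χ
    rw [mul_comm (conj _), ← mul_assoc, ← BSW.sum_class_product χ a, Finset.sum_mul]
    exact Finset.sum_congr rfl fun b _ => Finset.sum_mul _ _ _
  rw [Finset.sum_congr rfl fun χ _ => h1 χ, Finset.sum_comm,
    Finset.sum_congr rfl fun b _ => Finset.sum_comm]
  simp only [L.data.column_count, ← Nat.cast_sum, Nat.card_eq_fintype_card (α := G), ← Nat.cast_mul]
  congr 1
  have h2 : ∀ b c : G, (Finset.univ.filter fun g : G => g * (b * c) * g⁻¹ = y).card =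
      ∑ g : G, if g * (b * c) * g⁻¹ = y then 1 else 0 := fun b c => Finset.card_filter _ _
  simp only [h2]
  rw [Finset.sum_congr rfl fun b _ => Finset.sum_comm, Finset.sum_comm]
  have h3 : ∀ g : G, ∑ b ∈ T, ∑ c ∈ T, (if g * (b * c) * g⁻¹ = y then 1 else 0) =
      L.pairCount y := by
    intro g
    rw [← Finset.sum_product', Finset.sum_boole, Nat.cast_id, pairCount]
    refine Finset.card_equiv ((MulAut.conj g).toEquiv.prodCongr (MulAut.conj g).toEquiv) fun bc => ?_
    have hiff : ∀ b : G, IsConj a (g * b * g⁻¹) ↔ IsConj a b := fun b =>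
      ⟨fun h => h.trans (isConj_iff.2 ⟨g, rfl⟩).symm, fun h => h.trans (isConj_iff.2 ⟨g, rfl⟩)⟩
    simp only [T, Finset.mem_filter, Finset.mem_product, Finset.mem_univ, true_and,
      MulEquiv.toEquiv_eq_coe, Equiv.prodCongr_apply, EquivLike.coe_coe, Prod.map_fst, Prod.map_snd,
      MulAut.conj_apply, hiff, and_assoc]
    rw [show g * bc.1 * g⁻¹ * (g * bc.2 * g⁻¹) = g * (bc.1 * bc.2) * g⁻¹ by group]
  rw [Finset.sum_congr rfl fun g _ => h3 g, Finset.sum_const, Finset.card_univ, smul_eq_mul]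

variable {ζ : IrrCharacter G} (hfaith : ∀ g : G, (ζ : G → ℂ) g = (ζ : G → ℂ) 1 → g = 1)
  (hζa : (ζ : G → ℂ) a ≠ 0)

include hfaith hζa

theorem center_eq_one_of_conj {v : G} (hv : v ∈ Subgroup.center G) {i : ZMod p}
    (h : IsConj a (a * pw x i * v)) : v = 1 := by
  obtain ⟨μ, hμ, -⟩ := exists_over ζ
  have h1 := (classFunction_eq_of_isConj (irr_isClassFunction ζ) h)
  have h2 := hμ (a * pw x i) ⟨v, hv⟩
  dsimp only at h2
  rw [← h1, L.value_mul_pw] at h2
  have h3 : (μ : Subgroup.center G → ℂ) ⟨v, hv⟩ = 1 :=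
    mul_left_cancel₀ hζa (by rw [← h2, mul_one])
  refine hfaith v ?_
  have h4 := hμ 1 ⟨v, hv⟩
  rw [one_mul] at h4
  rw [h4, h3, mul_one]

/-- The pairs with product in `x Z`. -/
theorem pairs_iff {b c z : G} (hz : z ∈ Subgroup.center G) :
    (IsConj a b ∧ IsConj a c ∧ b * c = x * z) ↔
      z = a * a ∧ ∃ i : ZMod p, b = a * pw x i ∧ c = a * pw x (i + 1) := by
  haveI := Fintype.ofFinite (Subgroup.centralizer ({x} : Set G))
  have hz0 := L.sq_mem_center
  constructor
  · rintro ⟨hb, hc, hbc⟩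
    have hsq : ∀ d, IsConj a d → d * d = a * a := by
      intro d hd
      obtain ⟨g, rfl⟩ := isConj_iff.1 hd
      rw [show g * a * g⁻¹ * (g * a * g⁻¹) = g * (a * a) * g⁻¹ by group,
        Subgroup.mem_center_iff.1 hz0 g, mul_inv_cancel_right]
    set z0 := a * a
    have hcz : ∀ g, g * z = z * g := Subgroup.mem_center_iff.1 hz
    have hcz0 : ∀ g, g * z0 = z0 * g := Subgroup.mem_center_iff.1 hz0
    set y := b⁻¹ * x * b with hy
    have hw : x * y = z0 * z0 * (z * z)⁻¹ := by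
      rw [eq_mul_inv_iff_mul_eq]
      have e1 : c * b = y * z := by
        rw [show c * b = b⁻¹ * (b * c) * b by group, hbc, hy, mul_assoc b⁻¹, mul_assoc x,
          ← hcz b, ← mul_assoc x, ← mul_assoc b⁻¹, ← mul_assoc b⁻¹]
      have e2 : b * c * (c * b) = z0 * z0 := by
        rw [show b * c * (c * b) = b * (c * c) * b by group, hsq c hc, hcz0 b, mul_assoc,
          hsq b hb]
      rw [hbc, e1] at e2
      rw [← e2, mul_assoc x z, ← mul_assoc z y z, ← hcz y, mul_assoc y z z, ← mul_assoc x y]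
    have hwc : z0 * z0 * (z * z)⁻¹ ∈ Subgroup.center G :=
      mul_mem (mul_mem hz0 hz0) (inv_mem (mul_mem hz hz))
    have hxp : x ^ p = 1 := by rw [← L.data.hx, pow_orderOf_eq_one]
    have hy1 : y = x⁻¹ * (z0 * z0 * (z * z)⁻¹) := by rw [← hw, inv_mul_cancel_left]
    have hw1 : z0 * z0 * (z * z)⁻¹ = 1 := by
      refine L.center_pow_eq_one hwc ?_
      have hyp : y ^ p = 1 := by
        rw [hy, show b⁻¹ * x * b = b⁻¹ * x * (b⁻¹)⁻¹ by rw [inv_inv], conj_pow, hxp]; group
      rw [hy1, Commute.mul_pow (Subgroup.mem_center_iff.1 hwc x⁻¹), inv_pow, hxp, inv_one,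
        one_mul] at hyp
      exact hyp
    rw [hw1, mul_one] at hy1
    have hbcomm : Commute (a⁻¹ * b) x := by
      have e : b * x * b⁻¹ = x⁻¹ := by
        have h5 : x = b * x⁻¹ * b⁻¹ := by rw [← hy1, hy]; group
        conv_rhs => rw [h5]
        group
      refine mul_inv_eq_iff_eq_mul.1 ?_
      rw [show a⁻¹ * b * x * (a⁻¹ * b)⁻¹ = a⁻¹ * (b * x * b⁻¹) * a by group, e, ← L.inv]
      group
    obtain ⟨i, hi⟩ := L.data.exists_decomp (L.data.mem_C_iff.2 hbcomm)
    set v := (pw x i)⁻¹ * (a⁻¹ * b)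
    have hb' : b = a * pw x i * v := by simp [v, mul_assoc]
    have hv : v = 1 := L.center_eq_one_of_conj hfaith hζa hi (hb' ▸ hb)
    rw [hv, mul_one] at hb'
    have hc' : c = a * pw x (i + 1) * (z * z0⁻¹) := by
      have e : c = b⁻¹ * (x * z) := by rw [← hbc, inv_mul_cancel_left]
      have ha : a⁻¹ = a * z0⁻¹ := by rw [show z0 = a * a from rfl]; group
      have hz0i : ∀ g, g * z0⁻¹ = z0⁻¹ * g := Subgroup.mem_center_iff.1 (inv_mem hz0)
      rw [e, hb', mul_inv_rev, ← L.data.pw_neg, ha]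
      calc pw x (-i) * (a * z0⁻¹) * (x * z)
          = pw x (-i) * a * (z0⁻¹ * x) * z := by group
        _ = pw x (-i) * a * pw x (1 : ZMod p) * (z0⁻¹ * z) := by rw [← hz0i, pw_one]; group
        _ = _ := by rw [L.mul_pw, neg_neg, mul_assoc a, ← L.data.pw_add, ← hcz]
    have hzz : z * z0⁻¹ = 1 :=
      L.center_eq_one_of_conj hfaith hζa (mul_mem hz (inv_mem hz0)) (hc' ▸ hc)
    refine ⟨mul_inv_eq_one.1 hzz, i, hb', ?_⟩
    rw [hc', hzz, mul_one]
  · rintro ⟨rfl, i, rfl, rfl⟩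
    refine ⟨L.isConj_mul_pw i, L.isConj_mul_pw _, ?_⟩
    calc a * pw x i * (a * pw x (i + 1)) = a * (pw x i * a) * pw x (i + 1) := by group
      _ = a * a * (pw x (-i) * pw x (i + 1)) := by rw [L.mul_pw]; group
      _ = x * (a * a) := by
        rw [← L.data.pw_add, neg_add_cancel_left, pw_one, ← Subgroup.mem_center_iff.1 hz0 x]

theorem pairCount_eq {z : G} (hz : z ∈ Subgroup.center G) [Decidable (z = a * a)] :
    L.pairCount (x * z) = if z = a * a then p else 0 := by
  classical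
  unfold pairCount
  split_ifs with h
  · conv_rhs => rw [← ZMod.card p, ← Finset.card_univ]
    symm
    refine Finset.card_bij (fun i _ => (a * pw x i, a * pw x (i + 1))) (fun i _ => ?_)
      (fun i _ j _ hij => L.data.pw_inj (mul_left_cancel (congrArg Prod.fst hij))) fun bc hbc => ?_
    · rw [Finset.mem_filter]
      exact ⟨by simp, (L.pairs_iff hfaith hζa hz).2 ⟨h, i, rfl, rfl⟩⟩
    · rw [Finset.mem_filter] at hbc
      obtain ⟨-, i, h1, h2⟩ := (L.pairs_iff hfaith hζa hz).1 hbc.2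
      exact ⟨i, Finset.mem_univ _, Prod.ext h1.symm h2.symm⟩
  · rw [Finset.card_eq_zero, Finset.filter_eq_empty_iff]
    intro bc _ hbc
    exact h ((L.pairs_iff hfaith hζa hz).1 hbc).1

omit hfaith hζa

open scoped Classical in
/-- The character sum over the characters above `μ`. -/
def S (_ : Loc p x a) (μ : IrrCharacter (Subgroup.center G)) : ℂ :=
  ∑ χ ∈ Finset.univ.filter (fun χ => Over χ μ),
    conj ((χ : G → ℂ) x) * ((χ : G → ℂ) a ^ 2 / (χ : G → ℂ) 1)

include hfaith hζa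

/-- The key identity between the blocks. -/
theorem S_eq (μ : IrrCharacter (Subgroup.center G)) :
    (Nat.card {b : G // IsConj a b} : ℂ) ^ 2 * (Nat.card (Subgroup.center G) : ℂ) * L.S μ =
      (Nat.card G : ℂ) * p * (μ : Subgroup.center G → ℂ) ⟨a * a, L.sq_mem_center⟩ := by
  classical
  haveI := Fintype.ofFinite (Subgroup.center G)
  set K := (Nat.card {b : G // IsConj a b} : ℂ)
  choose ν hν hν1 using fun χ : IrrCharacter G => exists_over χ
  have hfib : ∀ μ', Finset.univ.filter (fun χ : IrrCharacter G => ν χ = μ') =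
      Finset.univ.filter (fun χ => Over χ μ') := fun μ' => Finset.filter_congr fun χ _ =>
    ⟨fun h => h ▸ hν χ, fun h => over_unique (hν χ) h⟩
  have hW : ∀ z : Subgroup.center G, K ^ 2 * ∑ μ' : IrrCharacter (Subgroup.center G),
      conj ((μ' : Subgroup.center G → ℂ) z) * L.S μ' =
        (Nat.card G : ℂ) * (L.pairCount (x * z) : ℂ) := by
    intro z
    rw [← L.sum_pairs]
    congr 1
    rw [← Finset.sum_fiberwise Finset.univ ν]
    refine Finset.sum_congr rfl fun μ' _ => ?_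
    rw [S, ← hfib, Finset.mul_sum]
    refine Finset.sum_congr rfl fun χ hχ => ?_
    rw [← (Finset.mem_filter.1 hχ).2, hν χ x z, map_mul]
    ring
  have hsum : ∑ z : Subgroup.center G, (μ : Subgroup.center G → ℂ) z *
      (K ^ 2 * ∑ μ' : IrrCharacter (Subgroup.center G),
        conj ((μ' : Subgroup.center G → ℂ) z) * L.S μ') =
      K ^ 2 * (Nat.card (Subgroup.center G) : ℂ) * L.S μ := by
    simp only [Finset.mul_sum]
    rw [Finset.sum_comm, Finset.sum_eq_single μ]
    · have h := classInner_irr μ μ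
      rw [if_pos rfl, classInner,
        inv_mul_eq_one₀ (Nat.cast_ne_zero.2 Nat.card_pos.ne')] at h
      rw [h, Finset.mul_sum, Finset.sum_mul]
      exact Finset.sum_congr rfl fun z _ => by ring
    · intro μ' _ hne
      have h := classInner_irr μ μ'
      rw [if_neg (Ne.symm hne), classInner, mul_eq_zero] at h
      have h' := h.resolve_left (inv_ne_zero (Nat.cast_ne_zero.2 Nat.card_pos.ne'))
      rw [Finset.sum_congr rfl (g := fun z : Subgroup.center G => (μ : Subgroup.center G → ℂ) z *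
        conj ((μ' : Subgroup.center G → ℂ) z) * (K ^ 2 * L.S μ')) (fun z _ => by ring),
        ← Finset.sum_mul, h', zero_mul]
    · exact fun h => absurd (Finset.mem_univ μ) h
  rw [← hsum, Finset.sum_congr rfl fun z _ => by rw [hW z, L.pairCount_eq hfaith hζa z.2]]
  rw [Finset.sum_eq_single ⟨a * a, L.sq_mem_center⟩]
  · rw [if_pos rfl]; ring
  · intro z _ hne
    rw [if_neg fun h => hne (Subtype.ext h)]
    simp
  · exact fun h => absurd (Finset.mem_univ _) h

theorem norm_S_eq {μ ν : IrrCharacter (Subgroup.center G)}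
    (hμ : ‖(μ : Subgroup.center G → ℂ) ⟨a * a, L.sq_mem_center⟩‖ = 1)
    (hν : ‖(ν : Subgroup.center G → ℂ) ⟨a * a, L.sq_mem_center⟩‖ = 1) :
    ‖L.S μ‖ = ‖L.S ν‖ := by
  have h1 := congrArg norm (L.S_eq hfaith hζa μ)
  have h2 := congrArg norm (L.S_eq hfaith hζa ν)
  simp only [norm_mul, norm_pow, Complex.norm_natCast, hμ, hν, mul_one] at h1 h2
  haveI : Nonempty {b : G // IsConj a b} := ⟨⟨a, IsConj.refl a⟩⟩
  refine mul_left_cancel₀ ?_ (h1.trans h2.symm)
  refine mul_ne_zero (pow_ne_zero _ ?_) ?_ <;> exact Nat.cast_ne_zero.2 Nat.card_pos.ne'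

end Loc

namespace Fam

variable {L : Loc p x a} {μ : IrrCharacter (Subgroup.center G)} (F : Fam L μ)

include F

theorem θ_value_a (u : (ZMod p)ˣ) : (F.θ u : G → ℂ) a = (F.θ 1 : G → ℂ) a := by
  have h := (F.relation a L.regular_a u).symm.trans (F.relation a L.regular_a 1)
  refine mul_left_cancel₀ ?_ h
  rcases F.ε_spec with h | h <;> simp [h]

theorem θ_degree (u : (ZMod p)ˣ) : (F.θ u : G → ℂ) 1 = (F.θ 1 : G → ℂ) 1 := by
  have h1 : ¬ p ∣ orderOf (1 : G) := by rw [orderOf_one]; exact hp.out.not_dvd_one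
  have h := (F.relation 1 h1 u).symm.trans (F.relation 1 h1 1)
  refine mul_left_cancel₀ ?_ h
  rcases F.ε_spec with h | h <;> simp [h]

/-- The character sum of a family. -/
theorem S_eq : L.S μ =
    (F.sA : ℂ) * ((F.A : G → ℂ) a ^ 2 / (F.A : G → ℂ) 1) +
    (F.sB : ℂ) * ((F.B : G → ℂ) a ^ 2 / (F.B : G → ℂ) 1) -
    (F.ε : ℂ) * ((F.θ 1 : G → ℂ) a ^ 2 / (F.θ 1 : G → ℂ) 1) := by
  classical
  have h := F.two_sum (fun χ => conj ((χ : G → ℂ) x) * ((χ : G → ℂ) a ^ 2 / (χ : G → ℂ) 1))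
    (fun χ _ hc => by simp [L.value_x_of_const χ hc])
  simp only [F.θ_value_a, F.θ_degree, ← Finset.sum_mul, ← map_sum, F.sum_θ_x,
    F.value_x_of_pattern F.xm_A, F.value_x_of_pattern F.xm_B, map_intCast, map_mul, map_neg,
    map_ofNat] at h
  simp only [Loc.S]
  linear_combination h / 2

end Fam

end CfsgLib.PSubTwo
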