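import Cfsg.Agent.Lib.PSubTwo.Linear
import Cfsg.Agent.Lib.PermPrime.Wedge
import Cfsg.Agent.Lib.Characters.BrauerPerm

/-!
# Degree `p - 2` with trivial centre: the alternating square
-/

set_option autoImplicit false
set_option linter.unusedSectionVars false
set_option linter.style.haveILetI false

noncomputable section

namespace CfsgLib.PSubTwo

open Cfsg CfsgLib.Characters CfsgLib.PrimeDefect CfsgLib.SelfCentralPrime
open scoped ComplexConjugate

universe u

variable {G : Type u} [Group G] [Fintype G] {p : ℕ} [hp : Fact p.Prime] {x a : G}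

theorem Loc.over_principal (L : Loc p x a) (hZ : Subgroup.center G = ⊥) (χ : IrrCharacter G) :
    Loc.Over χ (principalIrr (Subgroup.center G)) := fun g z => by
  have : (z : G) = 1 := Subgroup.mem_bot.1 (hZ ▸ z.2)
  simp [this, principalIrr]

/-- The multiplicities of the eigenvalues determine and are determined by the values on `⟨x⟩`. -/
theorem Loc.sum_coef_xm (L : Loc p x a) {ψ : G → ℂ} (c : IrrCharacter G → ℕ) (M : ZMod p → ℂ)
    (hc : ∀ g, ψ g = ∑ χ, (c χ : ℂ) * (χ : G → ℂ) g)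
    (hM : ∀ i, ψ (pw x i) = ∑ w : ZMod p, M w * ZMod.stdAddChar (i * w)) (j : ZMod p) :
    ∑ χ, (c χ : ℂ) * (L.xm χ j : ℂ) = M j := by
  refine mul_left_cancel₀ (Nat.cast_ne_zero.2 hp.out.ne_zero : (p : ℂ) ≠ 0) ?_
  have h1 : (p : ℂ) * ∑ χ, (c χ : ℂ) * (L.xm χ j : ℂ) =
      ∑ i : ZMod p, ψ (pw x i) * ZMod.stdAddChar (i * -j) := by
    simp only [hc, Finset.mul_sum, Finset.sum_mul]
    rw [Finset.sum_comm (t := (Finset.univ : Finset (IrrCharacter G)))]
    refine Finset.sum_congr rfl fun χ _ => ?_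
    rw [mul_left_comm, L.xm_eq, Finset.mul_sum]
    exact Finset.sum_congr rfl fun i _ => by ring
  rw [h1]
  simp only [hM, Finset.sum_mul, mul_assoc, ← AddChar.map_add_eq_mul, ← mul_add]
  rw [Finset.sum_comm]
  simp only [← Finset.mul_sum, sum_std, add_neg_eq_zero]
  rw [Finset.sum_eq_single j] <;> simp +contextual [mul_comm]

namespace Fam

variable {L : Loc p x a} {μ : IrrCharacter (Subgroup.center G)} (F : Fam L μ)

include F

open scoped Classical in
theorem sum_units {R : Type*} [AddCommMonoid R] (f : IrrCharacter G → R) :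
    ∑ u : (ZMod p)ˣ, f (F.θ u) =
      ∑ χ ∈ Finset.univ.image F.θ, f χ + ∑ χ ∈ Finset.univ.image F.θ, f χ := by
  rw [← Finset.sum_fiberwise_of_maps_to (g := F.θ) (t := Finset.univ.image F.θ)
    (fun u _ => Finset.mem_image_of_mem _ (Finset.mem_univ u)), ← Finset.sum_add_distrib]
  refine Finset.sum_congr rfl fun χ hχ => ?_
  obtain ⟨u, -, rfl⟩ := Finset.mem_image.1 hχ
  have : Finset.univ.filter (fun v => F.θ v = F.θ u) = {u, -u} := by
    ext v
    simp only [Finset.mem_filter, Finset.mem_univ, true_and, Finset.mem_insert,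
      Finset.mem_singleton]
    rw [eq_comm, F.θ_eq]
  rw [this, Finset.sum_pair (F.ne_neg u).symm, ← (F.θ_eq u (-u)).2 (Or.inr rfl)]

theorem θ_regular {g : G} (hg : ¬ p ∣ orderOf g) (v w : (ZMod p)ˣ) :
    (F.θ v : G → ℂ) g = (F.θ w : G → ℂ) g := by
  have h := (F.relation g hg v).symm.trans (F.relation g hg w)
  refine mul_left_cancel₀ ?_ h
  rcases F.ε_spec with h | h <;> simp [h]

end Fam

theorem two_ne_zero' (hp2 : 2 < p) : (2 : ZMod p) ≠ 0 := fun h => by
  have h' : ((2 : ℕ) : ZMod p) = 0 := by exact_mod_cast h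
  have := Nat.le_of_dvd (by norm_num) ((ZMod.natCast_eq_zero_iff 2 p).1 h')
  omega

/-- The alternating square of a character on `⟨x⟩`. -/
theorem Loc.wedge_on_zpowers (L : Loc p x a) (χ : IrrCharacter G) (hp2 : 2 < p) (i : ZMod p) :
    ((χ : G → ℂ) (pw x i) * (χ : G → ℂ) (pw x i) - (χ : G → ℂ) (pw x i * pw x i)) / 2 =
      ∑ w : ZMod p, ((∑ b : ZMod p, (L.xm χ b : ℂ) * (L.xm χ (w - b) : ℂ)) -
        (L.xm χ (w / 2) : ℂ)) / 2 * ZMod.stdAddChar (i * w) := by
  have hval := L.value_pw χ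
  have hsq : (χ : G → ℂ) (pw x i) * (χ : G → ℂ) (pw x i) = ∑ w : ZMod p,
      (∑ b : ZMod p, (L.xm χ b : ℂ) * (L.xm χ (w - b) : ℂ)) * ZMod.stdAddChar (i * w) := by
    rw [hval, Finset.sum_mul_sum]
    simp only [Finset.sum_mul]
    rw [Finset.sum_comm (s := (Finset.univ : Finset (ZMod p)))
      (f := fun w b => (L.xm χ b : ℂ) * (L.xm χ (w - b) : ℂ) * ZMod.stdAddChar (i * w))]
    refine Finset.sum_congr rfl fun b _ => ?_
    refine Fintype.sum_equiv (Equiv.addLeft b) _ _ fun c => ?_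
    rw [Equiv.coe_addLeft, add_sub_cancel_left, mul_add, AddChar.map_add_eq_mul]
    ring
  have hsq2 : (χ : G → ℂ) (pw x i * pw x i) =
      ∑ w : ZMod p, (L.xm χ (w / 2) : ℂ) * ZMod.stdAddChar (i * w) := by
    rw [← L.data.pw_add, hval]
    refine Fintype.sum_bijective (fun j : ZMod p => 2 * j)
      ⟨mul_right_injective₀ (two_ne_zero' hp2), fun w => ⟨w / 2, mul_div_cancel₀ _ (two_ne_zero' hp2)⟩⟩
      _ _ fun j => ?_
    rw [mul_div_cancel_left₀ _ (two_ne_zero' hp2)]
    congr 2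
    ring
  rw [hsq, hsq2, ← Finset.sum_sub_distrib, Finset.sum_div]
  exact Finset.sum_congr rfl fun w _ => by ring

/-- The multiplicities in the alternating square. -/
theorem wedge_mult (hp5 : 5 < p) {s : ZMod p} (hs : s ≠ 0) (m : ZMod p → ℂ)
    (hmf : ∀ j, m j = 1 - ((if j = s then 1 else 0) + if j = -s then 1 else 0)) :
    ((∑ b : ZMod p, m b * m (0 - b)) - m (0 / 2)) / 2 = ((p : ℂ) - 3) / 2 ∧
    ∀ w : ZMod p, w ≠ 0 → ((∑ b : ZMod p, m b * m (w - b)) - m (w / 2)) / 2 =
      if w = 2 * s ∨ w = -(2 * s) then ((p : ℂ) - 3) / 2 else ((p : ℂ) - 5) / 2 := by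
  have h2 : (2 : ZMod p) ≠ 0 := two_ne_zero' (by omega)
  set f : ZMod p → ℂ := fun j => (if j = s then 1 else 0) + if j = -s then 1 else 0 with hf
  have hmf' : ∀ j, m j = 1 - f j := hmf
  have e1 : ∑ b : ZMod p, f b = 2 := by
    simp only [f, Finset.sum_add_distrib, Finset.sum_ite_eq', Finset.mem_univ, if_true]
    norm_num
  have hconv : ∀ w, (∑ b : ZMod p, m b * m (w - b)) =
      ((p : ℂ) - 4) + (f (w - s) + f (w + s)) := by
    intro w
    simp only [hmf', sub_mul, mul_sub, one_mul, mul_one, Finset.sum_sub_distrib, Finset.sum_const,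
      Finset.card_univ, ZMod.card, nsmul_eq_mul]
    have e2 : ∑ b : ZMod p, f (w - b) = 2 := by
      rw [← e1]
      exact Fintype.sum_equiv (Equiv.subLeft w) _ _ fun b => rfl
    have e3 : ∑ b : ZMod p, f b * f (w - b) = f (w - s) + f (w + s) := by
      simp only [f, add_mul, ite_mul, one_mul, zero_mul, Finset.sum_add_distrib,
        Finset.sum_ite_eq', Finset.mem_univ, if_true, sub_neg_eq_add]
    rw [e1, e2, e3]
    ring
  have hss : s ≠ -s := fun e => by
    have : (2 : ZMod p) * s = 0 := by linear_combination e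
    rcases mul_eq_zero.1 this with h | h
    exacts [h2 h, hs h]
  refine ⟨?_, fun w hw => ?_⟩
  · rw [hconv]
    simp only [hmf', f, zero_div, zero_sub, zero_add, if_pos, if_neg hss, if_neg hss.symm,
      if_neg (Ne.symm hs), if_neg (Ne.symm (neg_ne_zero.2 hs))]
    norm_num
    ring
  · rw [hconv]
    simp only [hmf', f]
    have i1 : w - s = s ↔ w = 2 * s :=
      ⟨fun e => by linear_combination e, fun e => by linear_combination e⟩
    have i2 : w - s = -s ↔ w = 0 :=
      ⟨fun e => by linear_combination e, fun e => by linear_combination e⟩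
    have i3 : w + s = s ↔ w = 0 :=
      ⟨fun e => by linear_combination e, fun e => by linear_combination e⟩
    have i4 : w + s = -s ↔ w = -(2 * s) :=
      ⟨fun e => by linear_combination e, fun e => by linear_combination e⟩
    have i5 : w / 2 = s ↔ w = 2 * s := by rw [div_eq_iff h2, mul_comm]
    have i6 : w / 2 = -s ↔ w = -(2 * s) := by rw [div_eq_iff h2, neg_mul, mul_comm]
    simp only [i1, i2, i3, i4, i5, i6, if_neg hw]
    by_cases e1 : w = 2 * s
    · have e2 : w ≠ -(2 * s) := fun e => hs (by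
        have : (2 : ZMod p) * (2 * s) = 0 := by linear_combination e - e1
        simpa [h2] using this)
      rw [if_pos (Or.inl e1), if_pos e1, if_neg e2]
      ring
    · by_cases e2 : w = -(2 * s)
      · rw [if_pos (Or.inr e2), if_pos e2, if_neg e1]
        ring
      · rw [if_neg (not_or.2 ⟨e1, e2⟩), if_neg e1, if_neg e2]
        ring

/-- The facts about a faithful character of degree `p - 2` when the centre is trivial. -/
structure Core (p : ℕ) [Fact p.Prime] (x a : G) (ζ : IrrCharacter G) : Prop where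
  loc : Loc p x a
  hZ : Subgroup.center G = ⊥
  hdeg : charDegree (ζ : G → ℂ) + 2 = p
  hfaith : ∀ g : G, (ζ : G → ℂ) g = (ζ : G → ℂ) 1 → g = 1

namespace Core

variable {ζ : IrrCharacter G} (K : Core p x a ζ)

include K

theorem seven_le : 7 ≤ p := by
  have := K.loc.five_lt
  by_contra h
  have h6 : p = 6 := by omega
  exact absurd hp.out (by rw [h6]; norm_num)

theorem exists_fam : ∃ (F : Fam K.loc (principalIrr (Subgroup.center G))) (u : (ZMod p)ˣ),
    F.A = principalIrr G ∧ F.sA = 1 ∧ F.sB = -1 ∧ F.ε = -1 ∧ F.m = 1 ∧ F.θ u = ζ ∧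
    charDegree (F.B : G → ℂ) + 1 = p ∧ (F.B : G → ℂ) a = 0 := by
  have hp5 := K.loc.five_lt
  have h1over := K.loc.over_principal K.hZ (principalIrr G)
  have h1deg : charDegree ((principalIrr G : IrrCharacter G) : G → ℂ) = 1 := by
    simp [charDegree, principalIrr]
  obtain ⟨F0⟩ := K.loc.exists_fam (principalIrr (Subgroup.center G))
  obtain ⟨F, hA⟩ : ∃ P : Fam K.loc (principalIrr (Subgroup.center G)), P.A = principalIrr G := by
    rcases F0.cover _ h1over with h | h | ⟨v, hv⟩ | h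
    · exact ⟨F0, h.symm⟩
    · exact ⟨F0.swap, h.symm⟩
    · exfalso
      have := F0.deg_θ v
      rw [hv, h1deg] at this
      have h6 : (p : ℤ) ∣ 1 - 2 * F0.ε := ⟨F0.m, by push_cast at this; linarith⟩
      rcases F0.ε_spec with h7 | h7 <;> rw [h7] at h6
      · have h6' : (p : ℤ) ∣ 1 := by have := dvd_neg.2 h6; norm_num at this; exact this
        have := Int.le_of_dvd (by norm_num) h6'
        omega
      · have := Int.le_of_dvd (by norm_num) h6
        omega
    · exfalso
      have h' := K.loc.sum_xm (principalIrr G)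
      simp only [h, Finset.sum_const, Finset.card_univ, ZMod.card, smul_eq_mul, h1deg] at h'
      exact hp.out.ne_one (Nat.eq_one_of_mul_eq_one_right h')
  obtain ⟨⟨u, hu⟩, hε, hm⟩ := F.exists_eq_θ (K.loc.over_principal K.hZ ζ) K.hdeg
  have hA' := F.deg_A
  rw [hA, h1deg] at hA'
  have hsA : F.sA = 1 := by
    rcases F.sA_spec with h | h
    · exact h
    · exfalso
      rw [h] at hA'
      have h2 : (p : ℤ) ∣ 2 :=
        ⟨(K.loc.xm (principalIrr G) 0 : ℤ) + 1, by push_cast at hA'; linarith⟩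
      have := Int.le_of_dvd (by norm_num) h2
      omega
  have hrel := F.degree_relation u
  rw [hA, h1deg, hsA, hε, hu] at hrel
  have hd := K.hdeg
  have hsB : F.sB = -1 := by
    rcases F.sB_spec with h | h
    · exfalso; rw [h] at hrel; omega
    · exact h
  rw [hsB] at hrel
  have hB := F.deg_B
  rw [hsB] at hB
  have hdB : charDegree (F.B : G → ℂ) + 1 = p := by omega
  refine ⟨F, u, hA, hsA, hsB, hε, hm, hu, hdB, ?_⟩
  have hk : K.loc.xm F.B 0 = 0 := by
    have h5 : (p : ℤ) * (K.loc.xm F.B 0 : ℤ) = 0 := by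
      have h6 : (charDegree (F.B : G → ℂ) : ℤ) = p - 1 := by omega
      rw [h6] at hB
      linear_combination -hB
    rcases mul_eq_zero.1 h5 with h6 | h6 <;> omega
  have := K.loc.norm_value_le F.B
  rw [hk, Nat.cast_zero] at this
  exact norm_le_zero_iff.1 this

/-- The value at the inverting element. -/
theorem value_a : (ζ : G → ℂ) a = -1 := by
  obtain ⟨F, u, hA, hsA, hsB, hε, -, hu, -, hBa⟩ := K.exists_fam
  have h := F.relation a K.loc.regular_a u
  rw [hu, hsA, hsB, hε, hA, hBa] at h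
  simp [principalIrr] at h
  linear_combination h

/-- The order of the group through the centraliser of the inverting element. -/
theorem card_eq : Nat.card G * (p - 1) =
    p * (p - 2) * Nat.card (Subgroup.centralizer ({a} : Set G)) ^ 2 := by
  classical
  obtain ⟨F, u, hA, hsA, hsB, hε, -, hu, hdB, hBa⟩ := K.exists_fam
  have hp7 := K.seven_le
  have hne : (ζ : G → ℂ) a ≠ 0 := by rw [K.value_a]; norm_num
  have h := K.loc.S_eq K.hfaith hne (principalIrr (Subgroup.center G))
  rw [F.S_eq, hA, hsA, hsB, hε, hBa, ← F.θ_value_a u, ← F.θ_degree u, hu, K.value_a,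
    ← Chars17.cast_irrDegree ζ] at h
  have hcz : Nat.card (Subgroup.center G) = 1 := by rw [K.hZ]; exact Subgroup.card_bot
  rw [hcz] at h
  simp only [principalIrr_apply, Int.cast_one, Int.cast_neg, Nat.cast_one, one_mul, mul_one, one_pow, zero_pow two_ne_zero, zero_div, mul_zero, add_zero, div_one] at h
  have hd : (charDegree (ζ : G → ℂ) : ℂ) = (p : ℂ) - 2 := by
    rw [← K.hdeg]; push_cast; ring
  rw [hd] at h
  have hcl : Nat.card {b : G // IsConj a b} * Nat.card (Subgroup.centralizer ({a} : Set G)) =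
      Nat.card G := by
    exact card_isConj_mul_card_centralizer a
  set k := Nat.card {b : G // IsConj a b}
  set C := Nat.card (Subgroup.centralizer ({a} : Set G))
  have hk : (k : ℂ) ≠ 0 := by
    haveI : Nonempty {b : G // IsConj a b} := ⟨⟨a, IsConj.refl a⟩⟩
    exact Nat.cast_ne_zero.2 Nat.card_pos.ne'
  have hG : (Nat.card G : ℂ) = (k : ℂ) * C := by exact_mod_cast hcl.symm
  have hp2 : (p : ℂ) - 2 ≠ 0 := by
    have : ((p - 2 : ℕ) : ℂ) ≠ 0 := Nat.cast_ne_zero.2 (by omega)
    rwa [Nat.cast_sub (by omega : 2 ≤ p)] at this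
  have key : ((Nat.card G * (p - 1) : ℕ) : ℂ) = ((p * (p - 2) * C ^ 2 : ℕ) : ℂ) := by
    push_cast [Nat.cast_sub (by omega : 2 ≤ p), Nat.cast_sub (by omega : 1 ≤ p)]
    rw [hG] at h ⊢
    field_simp at h
    linear_combination (C : ℂ) * h
  exact_mod_cast key

theorem xm_zeta (u : (ZMod p)ˣ) (F : Fam K.loc (principalIrr (Subgroup.center G)))
    (hu : F.θ u = ζ) (hε : F.ε = -1) (hm : F.m = 1) (j : ZMod p) :
    (K.loc.xm ζ j : ℂ) =
      1 - ((if j = (u : ZMod p) then 1 else 0) + if j = -(u : ZMod p) then 1 else 0) := by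
  have e : K.loc.xm ζ j = K.loc.xm (F.θ u) j := by rw [hu]
  rw [e]
  by_cases hj : j = 0
  · subst hj
    rw [F.xm_θ_zero, hm, if_neg (Ne.symm u.ne_zero),
      if_neg (Ne.symm (neg_ne_zero.2 u.ne_zero))]
    norm_num
  · have h := congrArg (Int.cast : ℤ → ℂ) (F.xm_θ u (Units.mk0 j hj))
    rw [Units.val_mk0, hm, hε] at h
    push_cast at h
    rw [h]
    have hne : (u : ZMod p) ≠ -(u : ZMod p) := fun e => F.ne_neg u (Units.ext (by simpa using e.symm))
    by_cases h1 : j = (u : ZMod p)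
    · subst h1
      rw [if_pos (show Units.mk0 (u : ZMod p) hj = u ∨ Units.mk0 (u : ZMod p) hj = -u from Or.inl (Units.ext rfl)), if_pos rfl, if_neg hne]
      norm_num
    · by_cases h2 : j = -(u : ZMod p)
      · subst h2
        rw [if_pos (show Units.mk0 (-(u : ZMod p)) hj = u ∨ Units.mk0 (-(u : ZMod p)) hj = -u from Or.inr (Units.ext (by simp))), if_neg h1, if_pos rfl]
        norm_num
      · rw [if_neg (by
          rintro (e | e)
          · exact h1 (congrArg (fun v : (ZMod p)ˣ => (v : ZMod p)) e)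
          · exact h2 (by simpa using congrArg (fun v : (ZMod p)ˣ => (v : ZMod p)) e)),
          if_neg h1, if_neg h2]
        norm_num

/-- `ζ` is real. -/
theorem real (g : G) : conj ((ζ : G → ℂ) g) = (ζ : G → ℂ) g := by
  classical
  obtain ⟨F, u, hA, -, hsB, hε, hm, hu, -, -⟩ := K.exists_fam
  let ζ' : IrrCharacter G := ⟨fun g => conj ((ζ : G → ℂ) g), CfsgLib.BrauerPerm.isIrrCharacter_conj ζ.2⟩
  have hxm : ∀ j, K.loc.xm ζ' j = K.loc.xm ζ j := by
    intro j
    have h1 := K.loc.xm_eq ζ' j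
    have h2 := congrArg conj (K.loc.xm_eq ζ (-j))
    simp only [map_sum, map_mul, map_natCast, neg_neg, conj_std] at h2
    have h3 : (p : ℂ) * (K.loc.xm ζ' j : ℂ) = (p : ℂ) * (K.loc.xm ζ (-j) : ℂ) := by
      rw [h1, h2]
      refine Finset.sum_congr rfl fun i _ => ?_
      rw [mul_neg]
    have h4 : (K.loc.xm ζ (-j) : ℂ) = K.loc.xm ζ j := by
      rw [K.xm_zeta u F hu hε hm, K.xm_zeta u F hu hε hm]
      simp only [neg_eq_iff_eq_neg, neg_neg]
      ring
    exact_mod_cast (mul_left_cancel₀ (Nat.cast_ne_zero.2 hp.out.ne_zero) h3).trans h4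
  have hdeg' : charDegree (ζ' : G → ℂ) + 2 = p := by
    rw [← K.hdeg]
    simp [ζ', charDegree]
  obtain ⟨⟨r, hr⟩, -, -⟩ := F.exists_eq_θ (K.loc.over_principal K.hZ ζ') hdeg'
  have hrel : r = u ∨ r = -u := by
    have h1 := F.xm_θ r r
    have h2 := F.xm_θ u r
    rw [hr, hxm, hε, hm] at h1
    rw [hu, hε, hm, h1] at h2
    by_contra hne
    rw [if_pos (Or.inl rfl), if_neg hne] at h2
    norm_num at h2
  have : ζ' = ζ := by rw [← hr, ← (F.θ_eq u r).2 hrel, hu]
  exact congrFun (congrArg Subtype.val this) g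

set_option maxHeartbeats 400000 in
open scoped Classical in
/-- The alternating square is a multiple of `ζ` on the regular elements. -/
theorem sq_relation {g : G} (hg : ¬ p ∣ orderOf g) :
    (ζ : G → ℂ) (g * g) = (ζ : G → ℂ) g ^ 2 - ((p : ℂ) - 3) * (ζ : G → ℂ) g := by
  obtain ⟨F, u, hA, hsA, hsB, hε, hm, hu, hdB, -⟩ := K.exists_fam
  have hp7 := K.seven_le
  have hw := CfsgLib.PermPrime.isCharacter_wedge (irr_isCharacter ζ)
  set ψ : G → ℂ := fun g => ((ζ : G → ℂ) g * (ζ : G → ℂ) g - (ζ : G → ℂ) (g * g)) / 2 with hψdef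
  choose c hc using fun χ : IrrCharacter G => classInner_char_nat hw (irr_isCharacter χ)
  have hexp : ∀ g, ψ g = ∑ χ : IrrCharacter G, (c χ : ℂ) * (χ : G → ℂ) g := fun g => by
    have e := congrFun (classFunction_eq_sum (isClassFunction_of_isCharacter hw)) g
    simp only [Finset.sum_apply, Pi.smul_apply, smul_eq_mul, hc] at e
    exact e
  set m : ZMod p → ℂ := fun j => (K.loc.xm ζ j : ℂ) with hmdef
  have hval : ∀ i, (ζ : G → ℂ) (pw x i) = ∑ j : ZMod p, m j * ZMod.stdAddChar (i * j) :=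
    fun i => K.loc.value_pw ζ i
  set s : ZMod p := (u : ZMod p)
  have hs : s ≠ 0 := u.ne_zero
  have h2 : (2 : ZMod p) ≠ 0 := two_ne_zero' (by omega)
  set M : ZMod p → ℂ := fun w => ((∑ b : ZMod p, m b * m (w - b)) - m (w / 2)) / 2
  have hψ : ∀ i, ψ (pw x i) = ∑ w : ZMod p, M w * ZMod.stdAddChar (i * w) :=
    K.loc.wedge_on_zpowers ζ (by omega)
  have hM := fun j => K.loc.sum_coef_xm c M hexp hψ j
  have hmf : ∀ j, m j = 1 - ((if j = s then 1 else 0) + if j = -s then 1 else 0) :=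
    fun j => K.xm_zeta u F hu hε hm j
  obtain ⟨hM0, hMu⟩ := wedge_mult (by omega) hs m hmf
  -- the coefficients
  set cA := c F.A
  set cB := c F.B
  have hcθ : ∀ v : (ZMod p)ˣ, (c (F.θ v) : ℂ) =
      (cB : ℂ) - cA + (if (v : ZMod p) = 2 * s ∨ (v : ZMod p) = -(2 * s) then 0 else 1) := by
    intro v
    have h := F.two_sum (fun χ => (c χ : ℂ) * ((K.loc.xm χ (v : ZMod p) : ℂ) - K.loc.xm χ 0))
      (fun χ _ hconst => by simp [hconst])
    rw [Finset.filter_true_of_mem (fun χ _ => K.loc.over_principal K.hZ χ)] at h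
    simp only [mul_sub, Finset.sum_sub_distrib] at h
    rw [hM, hM, show M 0 = _ from hM0, show M (v : ZMod p) = _ from hMu _ v.ne_zero] at h
    have eA : (K.loc.xm F.A (v : ZMod p) : ℂ) = (K.loc.xm F.A 0 : ℂ) - 1 := by
      have := congrArg (Int.cast : ℤ → ℂ) (F.xm_A v)
      rw [hsA] at this; simpa using this
    have eB : (K.loc.xm F.B (v : ZMod p) : ℂ) = (K.loc.xm F.B 0 : ℂ) + 1 := by
      have := congrArg (Int.cast : ℤ → ℂ) (F.xm_B v)
      rw [hsB] at this; simpa using this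
    have eθ : ∑ w : (ZMod p)ˣ, ((c (F.θ w) : ℂ) * (K.loc.xm (F.θ w) (v : ZMod p) : ℂ) -
        (c (F.θ w) : ℂ) * (K.loc.xm (F.θ w) 0 : ℂ)) = -2 * (c (F.θ v) : ℂ) := by
      have e : ∀ w, (c (F.θ w) : ℂ) * (K.loc.xm (F.θ w) (v : ZMod p) : ℂ) -
          (c (F.θ w) : ℂ) * (K.loc.xm (F.θ w) 0 : ℂ) =
          if w = v ∨ w = -v then -(c (F.θ v) : ℂ) else 0 := by
        intro w
        have h1 := congrArg (Int.cast : ℤ → ℂ) (F.xm_θ w v)
        rw [hε, hm] at h1
        push_cast at h1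
        rw [h1, F.xm_θ_zero, hm]
        have hiff : (v = w ∨ v = -w) ↔ (w = v ∨ w = -v) := by
          rw [eq_comm (a := v) (b := w), eq_comm (a := v) (b := -w), neg_eq_iff_eq_neg]
        simp only [hiff]
        by_cases hw : w = v ∨ w = -v
        · rw [if_pos hw, if_pos hw, (F.θ_eq v w).2 hw]
          push_cast; ring
        · rw [if_neg hw, if_neg hw]
          push_cast; ring
      simp only [e, F.sum_pm]
      ring
    rw [← Finset.sum_sub_distrib, eθ] at h
    rw [eA, eB] at h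
    split_ifs at h ⊢ <;> linear_combination h / 2
  -- the degree bound
  obtain ⟨v0, hv0⟩ : ∃ v0 : (ZMod p)ˣ, (v0 : ZMod p) = 2 * s :=
    ⟨Units.mk0 _ (mul_ne_zero h2 hs), rfl⟩
  have hkAB : cA ≤ cB := by
    have h := hcθ v0
    rw [if_pos (Or.inl hv0), add_zero] at h
    have h' : (c (F.θ v0) + cA : ℕ) = cB := by
      have : ((c (F.θ v0) + cA : ℕ) : ℂ) = (cB : ℂ) := by push_cast; linear_combination h
      exact_mod_cast this
    omega
  have hsumθ : (∑ v : (ZMod p)ˣ, c (F.θ v)) + 2 = (p - 1) * (cB - cA + 1) := by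
    have hfilter : ∑ v : (ZMod p)ˣ,
        (if (v : ZMod p) = 2 * s ∨ (v : ZMod p) = -(2 * s) then (0 : ℂ) else 1) = (p : ℂ) - 3 := by
      have e : ∀ v : (ZMod p)ˣ,
          (if (v : ZMod p) = 2 * s ∨ (v : ZMod p) = -(2 * s) then (0 : ℂ) else 1) =
          1 - if v = v0 ∨ v = -v0 then (1 : ℂ) else 0 := by
        intro v
        have hiff : ((v : ZMod p) = 2 * s ∨ (v : ZMod p) = -(2 * s)) ↔ (v = v0 ∨ v = -v0) := by
          rw [← hv0, ← Units.val_neg, Units.val_inj, Units.val_inj]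
        simp only [hiff]
        split_ifs <;> norm_num
      simp only [e, Finset.sum_sub_distrib, F.sum_pm, Finset.sum_const, Finset.card_univ,
        ZMod.card_units, nsmul_eq_mul, Nat.cast_sub hp.out.one_le, Nat.cast_one]
      ring
    have : (((∑ v : (ZMod p)ˣ, c (F.θ v)) + 2 : ℕ) : ℂ) = (((p - 1) * (cB - cA + 1) : ℕ) : ℂ) := by
      push_cast [Nat.cast_sub hkAB, Nat.cast_sub hp.out.one_le]
      simp only [hcθ, Finset.sum_add_distrib, hfilter, Finset.sum_const, Finset.card_univ,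
        ZMod.card_units, nsmul_eq_mul, Nat.cast_sub hp.out.one_le, Nat.cast_one]
      ring
    exact_mod_cast this
  have hdθ : ∀ v, charDegree (F.θ v : G → ℂ) = p - 2 := by
    intro v
    have h1 := F.deg_θ v
    rw [hε, hm] at h1
    omega
  set T := Finset.univ.image F.θ
  have hψ1 : ((p - 2) * (p - 3) : ℕ) = 2 * ∑ χ : IrrCharacter G, c χ * charDegree (χ : G → ℂ) := by
    have h := hexp 1
    simp only [hψdef, mul_one, ← Chars17.cast_irrDegree] at h
    have hd : (charDegree (ζ : G → ℂ) : ℂ) = ((p - 2 : ℕ) : ℂ) := by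
      rw [show charDegree (ζ : G → ℂ) = p - 2 by have := K.hdeg; omega]
    rw [hd] at h
    have : (((p - 2) * (p - 3) : ℕ) : ℂ) =
        ((2 * ∑ χ : IrrCharacter G, c χ * charDegree (χ : G → ℂ) : ℕ) : ℂ) := by
      push_cast [Nat.cast_sub (by omega : 3 ≤ p), Nat.cast_sub (by omega : 2 ≤ p)]
      push_cast [Nat.cast_sub (by omega : 2 ≤ p)] at h
      linear_combination 2 * h
    exact_mod_cast this
  have hTA : F.A ∉ T := by simp [T, F.θ_ne_A]
  have hTB : F.B ∉ T := by simp [T, F.θ_ne_B]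
  set R := (Finset.univ : Finset (IrrCharacter G)) \ insert F.A (insert F.B T)
  have hsplit : ∀ f : IrrCharacter G → ℕ, ∑ χ, f χ =
      (∑ χ ∈ R, f χ) + (f F.A + (f F.B + ∑ χ ∈ T, f χ)) := fun f => by
    rw [← Finset.sum_sdiff (Finset.subset_univ (insert F.A (insert F.B T))),
      Finset.sum_insert (by simp [F.A_ne_B, hTA]), Finset.sum_insert hTB]
  have hT := F.sum_units c
  rw [← show T = Finset.univ.image F.θ from rfl] at hT
  have hTd : ∑ χ ∈ T, c χ * charDegree (χ : G → ℂ) = (p - 2) * ∑ χ ∈ T, c χ := by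
    rw [Finset.mul_sum]
    refine Finset.sum_congr rfl fun χ hχ => ?_
    obtain ⟨v, -, rfl⟩ := Finset.mem_image.1 hχ
    rw [hdθ, mul_comm]
  have hzero : (∀ χ ∈ R, c χ = 0) ∧ cA = 0 ∧ cB = 0 ∧ 2 * ∑ χ ∈ T, c χ = p - 3 := by
    rw [hsplit, hTd, show c F.A = cA from rfl, show c F.B = cB from rfl] at hψ1
    have h2T : 2 * ∑ χ ∈ T, c χ = ∑ v : (ZMod p)ˣ, c (F.θ v) := by rw [hT]; ring
    have hlow : p - 3 ≤ 2 * ∑ χ ∈ T, c χ := by
      have : p - 1 ≤ (p - 1) * (cB - cA + 1) := Nat.le_mul_of_pos_right _ (by omega)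
      omega
    have h9 : (p - 2) * (p - 3) ≤ (p - 2) * (2 * ∑ χ ∈ T, c χ) := Nat.mul_le_mul_left _ hlow
    have h10 : (p - 2) * (2 * ∑ χ ∈ T, c χ) = 2 * ((p - 2) * ∑ χ ∈ T, c χ) := by ring
    have hR0 : ∑ χ ∈ R, c χ * charDegree (χ : G → ℂ) = 0 := by omega
    have hA0 : cA * charDegree (F.A : G → ℂ) = 0 := by omega
    have hB0 : cB * charDegree (F.B : G → ℂ) = 0 := by omega
    refine ⟨fun χ hχ => (mul_eq_zero.1 (Finset.sum_eq_zero_iff.1 hR0 χ hχ)).resolve_right
      (Chars17.irrDegree_pos χ).ne', (mul_eq_zero.1 hA0).resolve_right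
      (Chars17.irrDegree_pos F.A).ne', (mul_eq_zero.1 hB0).resolve_right
      (Chars17.irrDegree_pos F.B).ne', ?_⟩
    exact Nat.eq_of_mul_eq_mul_left (by omega : 0 < p - 2) (by omega)
  have hval2 : ψ g = ((∑ χ ∈ T, c χ : ℕ) : ℂ) * (ζ : G → ℂ) g := by
    rw [hexp, ← Finset.sum_subset (Finset.subset_univ T) fun χ _ hχ => by
      have : c χ = 0 := by
        by_cases h : χ ∈ R
        · exact hzero.1 χ h
        · simp only [R, Finset.mem_sdiff, Finset.mem_univ, true_and, not_not, Finset.mem_insert] at h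
          rcases h with rfl | rfl | h
          exacts [hzero.2.1, hzero.2.2.1, absurd h hχ]
      simp [this]]
    push_cast
    rw [Finset.sum_mul]
    refine Finset.sum_congr rfl fun χ hχ => ?_
    obtain ⟨v, -, rfl⟩ := Finset.mem_image.1 hχ
    congr 1
    rw [← F.θ_regular hg v u |>.trans (congrArg (fun χ : IrrCharacter G => (χ : G → ℂ) g) hu)]
  have hT2 : ((∑ χ ∈ T, c χ : ℕ) : ℂ) * 2 = (p : ℂ) - 3 := by
    have : ((2 * ∑ χ ∈ T, c χ : ℕ) : ℂ) = ((p - 3 : ℕ) : ℂ) := by rw [hzero.2.2.2]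
    push_cast [Nat.cast_sub (by omega : 3 ≤ p)] at this ⊢
    linear_combination this
  simp only [hψdef] at hval2
  linear_combination -2 * hval2 - (ζ : G → ℂ) g * hT2

end Core

end CfsgLib.PSubTwo
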